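import Mathlib
import Cfsg.Agent.Lib.MinDegree.Sp

/-!
A form of rank at least two on the Siegel radical forces a large dimension.
-/

namespace CfsgLib.Weil.Gap

open Matrix CfsgLib.Classical CfsgLib.MinDegree

variable {F : Type*} [Field F] [Fintype F]

/-- Counting along translates. -/
theorem count_translates {X T : Type*} [AddCommGroup X] [Finite X] [Finite T] (P : X → Prop) (f : T → X) (k : ℕ)
    (hk : ∀ x, Nat.card {t : T // P (x + f t)} ≤ k) : Nat.card {x // P x} * Nat.card T ≤ Nat.card X * k := by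
  haveI : Fintype X := Fintype.ofFinite X
  calc Nat.card {x // P x} * Nat.card T = Nat.card ({x // P x} × T) := (Nat.card_prod _ _).symm
    _ ≤ Nat.card (Σ x : X, {t : T // P (x + f t)}) := by
        refine Nat.card_le_card_of_injective (fun p => ⟨p.1.1 - f p.2, p.2, by rw [sub_add_cancel]; exact p.1.2⟩) ?_
        rintro ⟨⟨x, hx⟩, t⟩ ⟨⟨y, hy⟩, s⟩ h
        simp only [Sigma.mk.injEq] at h
        obtain ⟨h1, h2⟩ := h
        have hts : t = s := by
          have e : ∀ {a b : X}, a = b → ∀ (u : {t : T // P (a + f t)}) (v : {t : T // P (b + f t)}),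
              HEq u v → u.1 = v.1 := by
            rintro a b rfl u v huv
            rw [eq_of_heq huv]
          exact e h1 _ _ h2
        subst hts
        rw [sub_left_inj] at h1
        subst h1
        rfl
    _ ≤ _ := by
        rw [Nat.card_sigma, Nat.card_eq_fintype_card, ← Finset.card_univ, ← smul_eq_mul, ← Finset.sum_const]
        exact Finset.sum_le_sum fun x _ => hk x

/-- A non-degenerate conic has at most `q + 1` affine points. -/
theorem conic_le (h2 : (2 : F) ≠ 0) {α γ c : F} (hα : α ≠ 0) (hγ : γ ≠ 0) (hc : c ≠ 0) :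
    Nat.card {p : F × F // α * p.1 * p.1 + γ * p.2 * p.2 = c} ≤ Fintype.card F + 1 := by
  classical
  rcases isEmpty_or_nonempty {p : F × F // α * p.1 * p.1 + γ * p.2 * p.2 = c} with h | ⟨⟨⟨s₀, t₀⟩, h0⟩⟩
  · simp
  simp only at h0
  set L : F × F → F := fun d => -(2 * (α * s₀ * d.1 + γ * t₀ * d.2)) / (α * d.1 * d.1 + γ * d.2 * d.2)
  set dir : Option F → F × F := fun o => o.elim (0, 1) fun u => (1, u)
  set g : Option F → F × F := fun o => (s₀ + L (dir o) * (dir o).1, t₀ + L (dir o) * (dir o).2)
  have hsub : ∀ p : F × F, α * p.1 * p.1 + γ * p.2 * p.2 = c → ∃ o, g o = p := by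
    rintro ⟨s, t⟩ hp
    simp only at hp
    by_cases hs : s = s₀
    · subst hs
      have ht : (t - t₀) * (t + t₀) = 0 := by
        refine (mul_eq_zero.1 (show γ * ((t - t₀) * (t + t₀)) = 0 by linear_combination hp - h0)).resolve_left hγ
      rcases mul_eq_zero.1 ht with e | e
      · rw [sub_eq_zero] at e
        subst e
        by_cases ht0 : t = 0
        · refine ⟨none, ?_⟩
          simp [g, L, dir, ht0]
        · refine ⟨some (-(α * s) / (γ * t)), ?_⟩
          have : α * s * 1 + γ * t * (-(α * s) / (γ * t)) = 0 := by field_simp; ring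
          simp only [g, L, dir, Option.elim, this]
          simp
      · refine ⟨none, Prod.ext (by simp [g, L, dir]) ?_⟩
        have hL0 : L (0, 1) = -(2 * t₀) := by simp [L]; field_simp
        simp only [g, dir, Option.elim, hL0]
        linear_combination -e
    · set u := (t - t₀) / (s - s₀) with hu
      have hs' : s - s₀ ≠ 0 := sub_ne_zero.2 hs
      have ht : t = t₀ + (s - s₀) * u := by rw [hu]; field_simp; ring
      have key : (s - s₀) * (α + γ * u * u) = -(2 * (α * s₀ + γ * t₀ * u)) := by
        refine mul_left_cancel₀ hs' ?_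
        rw [ht] at hp
        linear_combination hp - h0
      have hd : α + γ * u * u ≠ 0 := by
        intro hd
        rw [hd, mul_zero] at key
        have hk : α * s₀ + γ * t₀ * u = 0 :=
          (mul_eq_zero.1 (show (2 : F) * (α * s₀ + γ * t₀ * u) = 0 by linear_combination key)).resolve_left h2
        have hu0 : u ≠ 0 := fun e => hα (by rw [e] at hd; linear_combination hd)
        have e : t₀ = u * s₀ := by
          refine sub_eq_zero.1 ((mul_eq_zero.1 (show (γ * u) * (t₀ - u * s₀) = 0 by
            linear_combination hk - s₀ * hd)).resolve_left (mul_ne_zero hγ hu0))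
        exact hc (by rw [← h0, e]; linear_combination s₀ * s₀ * hd)
      refine ⟨some u, ?_⟩
      have hL : L (1, u) = s - s₀ := by
        simp only [L, mul_one]
        rw [div_eq_iff hd]
        linear_combination -key
      simp [g, dir, hL, ht]
  calc Nat.card {p : F × F // α * p.1 * p.1 + γ * p.2 * p.2 = c} ≤ Nat.card (Option F) := by
        choose o ho using fun p : {p : F × F // α * p.1 * p.1 + γ * p.2 * p.2 = c} => hsub p.1 p.2
        exact Nat.card_le_card_of_injective o fun p p' e => Subtype.ext (by rw [← ho p, ← ho p', e])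
    _ = _ := by simp [Nat.card_eq_fintype_card]

/-- Completing the square. -/
theorem sq_shift (h2 : (2 : F) ≠ 0) {α : F} (hα : α ≠ 0) (s β : F) :
    α * (s + β / (2 * α)) * (s + β / (2 * α)) = α * s * s + s * β + β * β / (4 * α) := by
  have h4 : (4 : F) ≠ 0 := by rw [show (4 : F) = 2 * 2 by norm_num]; exact mul_ne_zero h2 h2
  field_simp
  ring

variable {m : ℕ} {ψ : AddChar F ℂ} {χ : AddChar (symA m F) ℂ} {Q : (Fin m → F) → F}
  {B : (Fin m → F) → (Fin m → F) → F}

/-- An orthogonal pair spanning an anisotropic plane or with a null complement. -/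
theorem exists_plane (h2 : (2 : F) ≠ 0) (hψ : ψ ≠ 1) (hf : IsForm ψ χ Q B)
    {v w : Fin m → F} (h : B v w * B v w ≠ 4 * Q v * Q w) :
    ∃ a b, Q a ≠ 0 ∧ Q b ≠ 0 ∧ B a b = 0 ∧
      (¬ IsSquare (-(Q a * Q b)) ∨ ∀ x, B a x = 0 → B b x = 0 → Q x = 0) := by
  have step : ∀ v w, Q v ≠ 0 → B v w * B v w ≠ 4 * Q v * Q w → ∃ a b, Q a ≠ 0 ∧ Q b ≠ 0 ∧ B a b = 0 := by
    intro v w hv h
    set t := -(B v w) / (2 * Q v)
    refine ⟨v, w + t • v, hv, fun e => h ?_, ?_⟩
    · rw [hf.line hψ, hf.polar_comm hψ w v] at e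
      simp only [t] at e
      field_simp at e
      linear_combination -e
    · rw [hf.polar_add hψ, hf.polar_smul hψ, hf.polar_self hψ]
      simp only [t]
      field_simp
      ring
  obtain ⟨a, b, ha, hb, hab⟩ : ∃ a b, Q a ≠ 0 ∧ Q b ≠ 0 ∧ B a b = 0 := by
    by_cases hv : Q v = 0
    · by_cases hw : Q w = 0
      · refine step (v + w) w ?_ ?_
        · rw [hf.map_add hψ, hv, hw, zero_add, zero_add]
          intro e
          exact h (by rw [e, hv]; ring)
        · rw [hf.polar_comm hψ (v + w) w, hf.polar_add hψ, hf.polar_self hψ, hw, add_zero, add_zero,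
            hf.polar_comm hψ w v, mul_zero]
          intro e
          exact h (by rw [e, hw, mul_zero])
      · exact step w v hw (by rw [hf.polar_comm hψ w v]; intro e; exact h (by linear_combination e))
    · exact step v w hv h
  by_cases hsq : IsSquare (-(Q a * Q b))
  swap
  · exact ⟨a, b, ha, hb, hab, Or.inl hsq⟩
  by_cases hx : ∀ x, B a x = 0 → B b x = 0 → Q x = 0
  · exact ⟨a, b, ha, hb, hab, Or.inr hx⟩
  push Not at hx
  obtain ⟨x, hax, hbx, hx⟩ := hx
  by_cases hsx : IsSquare (-(Q a * Q x))
  swap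
  · exact ⟨a, x, ha, hx, hax, Or.inl hsx⟩
  obtain ⟨μ, hμ⟩ := FiniteField.exists_nonsquare (F := F) (by
    intro hc
    exact h2 (by
      have := CharP.cast_eq_zero F (ringChar F)
      rwa [hc] at this))
  have hμ0 : μ ≠ 0 := fun e => hμ (e ▸ IsSquare.zero)
  obtain ⟨d, hd⟩ := hsq
  have hd0 : d ≠ 0 := fun e => mul_ne_zero ha hb (by rw [e] at hd; linear_combination -hd)
  set y := ((1 + μ) / 2) • a + ((μ - 1) * Q a / (2 * d)) • b
  have hy : Q y = μ * Q a := by
    simp only [y]
    rw [hf.map_add hψ, hf.map_smul hψ, hf.map_smul hψ, hf.polar_smul hψ, hf.polar_comm hψ (_ • a) b,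
      hf.polar_smul hψ, hf.polar_comm hψ b a, hab]
    field_simp
    linear_combination (-(μ - 1) ^ 2) * hd
  refine ⟨y, x, by rw [hy]; exact mul_ne_zero hμ0 ha, hx, ?_, Or.inl ?_⟩
  · simp only [y]
    rw [hf.polar_comm hψ _ x, hf.polar_add hψ, hf.polar_smul hψ, hf.polar_smul hψ, hf.polar_comm hψ x a,
      hf.polar_comm hψ x b, hax, hbx, mul_zero, mul_zero, add_zero]
  · rw [hy]
    intro hs
    refine hμ ?_
    have := hs.div hsx
    rwa [show -(μ * Q a * Q x) / -(Q a * Q x) = μ by field_simp] at this

variable {V : Type*} [AddCommGroup V] [Module ℂ V] [FiniteDimensional ℂ V]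

/-- A form of rank at least two in a representation bounds the dimension. -/
theorem dim_bound [DecidableEq F] (h2 : (2 : F) ≠ 0) (hψ : ψ ≠ 1) (hm : 2 ≤ m)
    (ρ : symplecticGroup (Fin m) F →* Module.End ℂ V) (hχ : weightSpace (ρ.comp spSHom) χ ≠ ⊥)
    (hf : IsForm ψ χ Q B) {v w : Fin m → F} (h : B v w * B v w ≠ 4 * Q v * Q w) :
    (Fintype.card F ^ m - 1) * (Fintype.card F ^ m - Fintype.card F) ≤
      2 * (Fintype.card F + 1) * Module.finrank ℂ V := by
  classical
  haveI : Fintype (symA m F) := Fintype.ofFinite _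
  haveI : Finite (AddChar (symA m F) ℂ) := MinDegree.finite_addChar
  haveI : Fintype (AddChar (symA m F) ℂ) := Fintype.ofFinite _
  obtain ⟨a, b, ha, hb, hab, hgood⟩ := exists_plane h2 hψ hf h
  set q := Fintype.card F
  set O : Finset (AddChar (symA m F) ℂ) :=
    Finset.univ.filter fun η => ∃ g : GL (Fin m) F, η = χ.compAddMonoidHom (congrAct g) with hO
  have hdim : O.card ≤ Module.finrank ℂ V := by
    refine card_le_finrank (ρ.comp spSHom) (by exact_mod_cast Fintype.card_ne_zero) O fun η hη => ?_
    obtain ⟨g, rfl⟩ := (Finset.mem_filter.1 hη).2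
    obtain ⟨T, hT, hint⟩ := hmove_sp ρ g
    exact weightSpace_moved _ _ T hT hint hχ
  refine le_trans ?_ (Nat.mul_le_mul_left _ hdim)
  choose Q' B' hf' using fun η => exists_form (m := m) (by exact_mod_cast (Fintype.card_ne_zero : Fintype.card F ≠ 0)) hψ η
  have hQc : ∀ (g : GL (Fin m) F) x,
      Q' (χ.compAddMonoidHom (congrAct g)) x = Q ((g : Matrix (Fin m) (Fin m) F) *ᵥ x) := fun g x =>
    cancel_shift hψ fun d => by rw [← (hf' _).sq_eq, (hf.comp g).sq_eq]
  have hBc : ∀ (g : GL (Fin m) F) x y, B' (χ.compAddMonoidHom (congrAct g)) x y =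
      B ((g : Matrix (Fin m) (Fin m) F) *ᵥ x) ((g : Matrix (Fin m) (Fin m) F) *ᵥ y) := fun g x y =>
    cancel_shift hψ fun d => by rw [← (hf' _).sy_eq, (hf.comp g).sy_eq]
  set P := Finset.univ.filter fun p : Fin 2 → Fin m → F => LinearIndependent F p
  have hP : P.card = (q ^ m - 1) * (q ^ m - q) := by
    have := card_linearIndependent (K := F) (V := Fin m → F) (k := 2) (by rw [Module.finrank_fin_fun]; exact hm)
    rw [Nat.card_eq_fintype_card, Fintype.card_subtype, Module.finrank_fin_fun, Fin.prod_univ_two] at this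
    simpa [P, q] using this
  have hliab : LinearIndependent F ![a, b] := by
    rw [LinearIndependent.pair_iff]
    intro s t e
    have h1 := congrArg (B a) e
    have h2' := congrArg (B b) e
    have hz : ∀ u, B u 0 = 0 := fun u => by
      have := hf.polar_smul hψ 0 u 0
      rwa [zero_smul, zero_mul] at this
    rw [hf.polar_add hψ, hf.polar_smul hψ, hf.polar_smul hψ, hf.polar_self hψ, hab, hz, mul_zero, add_zero] at h1
    rw [hf.polar_add hψ, hf.polar_smul hψ, hf.polar_smul hψ, hf.polar_self hψ, hf.polar_comm hψ b a, hab, hz, mul_zero,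
      zero_add] at h2'
    exact ⟨(mul_eq_zero.1 h1).resolve_right (by rw [← two_mul]; exact mul_ne_zero h2 ha),
      (mul_eq_zero.1 h2').resolve_right (by rw [← two_mul]; exact mul_ne_zero h2 hb)⟩
  have key := Finset.card_mul_le_card_mul
    (fun (p : Fin 2 → Fin m → F) η => Q' η (p 0) = Q a ∧ Q' η (p 1) = Q b ∧ B' η (p 0) (p 1) = 0) (s := P) (t := O)
    (m := q ^ (m - 2) * q ^ (m - 2)) (n := ((q + 1) * q ^ (m - 2)) * (2 * q ^ (m - 2))) (fun p hp => ?_) (fun η hη => ?_)
  · rw [hP] at key
    refine Nat.le_of_mul_le_mul_right (key.trans_eq ?_)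
      (Nat.mul_pos (Nat.pow_pos Fintype.card_pos) (Nat.pow_pos Fintype.card_pos) :
        0 < q ^ (m - 2) * q ^ (m - 2))
    ring
  · have hli : LinearIndependent F p := (Finset.mem_filter.1 hp).2
    obtain ⟨g, hg⟩ := exists_gl_map hli hliab
    have hg0 : (g : Matrix (Fin m) (Fin m) F) *ᵥ p 0 = a := hg 0
    have hg1 : (g : Matrix (Fin m) (Fin m) F) *ᵥ p 1 = b := hg 1
    haveI : Finite ((Fin m → F) →ₗ[F] F) := Module.finite_of_finite F
    haveI : Fintype {φ : (Fin m → F) →ₗ[F] F // ∀ i, φ (p i) = 0} := Fintype.ofFinite _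
    have hcard := card_vanishing (F := F) (m := m) hli
    rw [Fintype.card_fin, Nat.card_eq_fintype_card] at hcard
    rw [← hcard, ← Fintype.card_prod]
    choose s hs using fun φ : {φ : (Fin m → F) →ₗ[F] F // ∀ i, φ (p i) = 0} => exists_shear φ.1 (φ.2 0)
    choose s' hs' using fun φ : {φ : (Fin m → F) →ₗ[F] F // ∀ i, φ (p i) = 0} => exists_shear φ.1 (φ.2 1)
    set G := fun φφ : {φ : (Fin m → F) →ₗ[F] F // ∀ i, φ (p i) = 0} × {φ : (Fin m → F) →ₗ[F] F // ∀ i, φ (p i) = 0} =>
      g * (s φφ.1 * s' φφ.2)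
    have hG : ∀ φφ x, (G φφ : Matrix (Fin m) (Fin m) F) *ᵥ x =
        (g : Matrix (Fin m) (Fin m) F) *ᵥ x + φφ.1.1 x • a + φφ.2.1 x • b := by
      intro φφ x
      simp only [G, Units.val_mul, ← mulVec_mulVec, hs', hs, map_add, map_smul, φφ.1.2 1, smul_zero, add_zero,
        mulVec_add, mulVec_smul, hg0, hg1]
      abel
    have hGp : ∀ φφ i, (G φφ : Matrix (Fin m) (Fin m) F) *ᵥ p i = (g : Matrix (Fin m) (Fin m) F) *ᵥ p i := fun φφ i => by
      rw [hG, φφ.1.2 i, φφ.2.2 i, zero_smul, zero_smul, add_zero, add_zero]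
    refine Finset.card_le_card_of_injOn (fun φφ => χ.compAddMonoidHom (congrAct (G φφ))) (fun φφ _ => ?_) ?_
    · simp only [Finset.mem_coe, Finset.mem_bipartiteAbove, hO, Finset.mem_filter, Finset.mem_univ, true_and]
      exact ⟨⟨G φφ, rfl⟩, by rw [hQc, hGp, hg0], by rw [hQc, hGp, hg1], by rw [hBc, hGp, hGp, hg0, hg1, hab]⟩
    · intro φφ _ ψψ _ e
      have h0 : ∀ x, B a ((G φφ : Matrix (Fin m) (Fin m) F) *ᵥ x) = B a ((G ψψ : Matrix (Fin m) (Fin m) F) *ᵥ x) :=
        fun x => by
          have := congrArg (fun η => B' η (p 0) x) e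
          simpa only [hBc, hGp, hg0] using this
      have h1 : ∀ x, B b ((G φφ : Matrix (Fin m) (Fin m) F) *ᵥ x) = B b ((G ψψ : Matrix (Fin m) (Fin m) F) *ᵥ x) :=
        fun x => by
          have := congrArg (fun η => B' η (p 1) x) e
          simpa only [hBc, hGp, hg1] using this
      refine Prod.ext (Subtype.ext (LinearMap.ext fun x => ?_)) (Subtype.ext (LinearMap.ext fun x => ?_))
      · have := h0 x
        simp only [hG, hf.polar_add hψ, hf.polar_smul hψ, hab, mul_zero, add_zero, hf.polar_self hψ,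
          add_right_inj] at this
        exact mul_right_cancel₀ (by rw [← two_mul]; exact mul_ne_zero h2 ha) this
      · have := h1 x
        simp only [hG, hf.polar_add hψ, hf.polar_smul hψ, hf.polar_comm hψ b a, hab, mul_zero, add_zero,
          hf.polar_self hψ, add_right_inj] at this
        exact mul_right_cancel₀ (by rw [← two_mul]; exact mul_ne_zero h2 hb) this
  · obtain ⟨g, rfl⟩ := (Finset.mem_filter.1 hη).2
    have hq : 0 < q := Fintype.card_pos
    have hXc : Nat.card (Fin m → F) = q ^ m := by simp [q]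
    have hv : Nat.card {x : Fin m → F // Q x = Q a} ≤ (q + 1) * q ^ (m - 2) := by
      have := count_translates (fun x => Q x = Q a) (fun st : F × F => st.1 • a + st.2 • b) (q + 1) fun x => ?_
      · rw [hXc, Nat.card_prod, Nat.card_eq_fintype_card (α := F), show q ^ m = q ^ (m - 2) * (q * q) by
          rw [← pow_two, ← pow_add]; congr 1; omega] at this
        refine Nat.le_of_mul_le_mul_right (this.trans_eq ?_) (Nat.mul_pos hq hq)
        ring
      set c := Q a - Q x + B x a * B x a / (4 * Q a) + B x b * B x b / (4 * Q b) with hc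
      have h4 : (4 : F) ≠ 0 := by rw [show (4 : F) = 2 * 2 by norm_num]; exact mul_ne_zero h2 h2
      let e : F × F ≃ F × F :=
        (Equiv.addRight (B x a / (2 * Q a))).prodCongr (Equiv.addRight (B x b / (2 * Q b)))
      have heq : ∀ st : F × F, Q (x + (st.1 • a + st.2 • b)) = Q a ↔
          Q a * (e st).1 * (e st).1 + Q b * (e st).2 * (e st).2 = c := by
        intro st
        rw [hf.map_add hψ, hf.map_add hψ, hf.map_smul hψ, hf.map_smul hψ, hf.polar_add hψ, hf.polar_smul hψ,
          hf.polar_smul hψ, hf.polar_smul hψ, hf.polar_comm hψ (_ • a) b, hf.polar_smul hψ, hf.polar_comm hψ b a, hab]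
        simp only [e, hc, Equiv.prodCongr_apply, Prod.map, Equiv.coe_addRight]
        rw [sq_shift h2 ha, sq_shift h2 hb]
        constructor <;> intro hh <;> linear_combination hh
      have ecard : Nat.card {st : F × F // Q (x + (st.1 • a + st.2 • b)) = Q a} =
          Nat.card {p : F × F // Q a * p.1 * p.1 + Q b * p.2 * p.2 = c} :=
        Nat.card_congr (e.subtypeEquiv heq)
      rw [ecard]
      by_cases hc0 : c = 0
      · rcases hgood with hsq | hnull
        · haveI : Subsingleton {p : F × F // Q a * p.1 * p.1 + Q b * p.2 * p.2 = c} := by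
            refine ⟨fun p p' => Subtype.ext ?_⟩
            have hzero : ∀ p : {p : F × F // Q a * p.1 * p.1 + Q b * p.2 * p.2 = c}, p.1 = 0 := by
              rintro ⟨⟨s, t⟩, hp⟩
              simp only [hc0] at hp
              by_cases ht : t = 0
              · subst ht
                have : Q a * (s * s) = 0 := by linear_combination hp
                simp [mul_self_eq_zero.1 ((mul_eq_zero.1 this).resolve_left ha)]
              · refine absurd ⟨Q a * s / t, ?_⟩ hsq
                field_simp
                linear_combination -hp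
            rw [hzero p, hzero p']
          exact le_trans (Finite.card_le_one_iff_subsingleton.2 inferInstance) (Nat.le_add_left 1 q)
        · exfalso
          have hn := hnull (x + (-(B x a / (2 * Q a))) • a + (-(B x b / (2 * Q b))) • b) ?_ ?_
          · rw [hf.map_add hψ, hf.map_add hψ, hf.map_smul hψ, hf.map_smul hψ, hf.polar_smul hψ, hf.polar_smul hψ,
              hf.polar_comm hψ (x + _) b, hf.polar_add hψ, hf.polar_smul hψ, hf.polar_comm hψ b a, hab,
              hf.polar_comm hψ b x] at hn
            apply ha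
            rw [hc] at hc0
            have l1 := sq_shift h2 ha (-(B x a / (2 * Q a))) (B x a)
            have l2 := sq_shift h2 hb (-(B x b / (2 * Q b))) (B x b)
            rw [neg_add_cancel, mul_zero] at l1 l2
            linear_combination hc0 + hn + l1 + l2
          · rw [hf.polar_add hψ, hf.polar_add hψ, hf.polar_smul hψ, hf.polar_smul hψ, hab, hf.polar_self hψ,
              hf.polar_comm hψ a x]
            field_simp
            ring
          · rw [hf.polar_add hψ, hf.polar_add hψ, hf.polar_smul hψ, hf.polar_smul hψ, hf.polar_comm hψ b a, hab,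
              hf.polar_self hψ, hf.polar_comm hψ b x]
            field_simp
            ring
      · exact conic_le h2 ha hb hc0
    have hw : ∀ v₀, Q v₀ = Q a → Nat.card {x : Fin m → F // B v₀ x = 0 ∧ Q x = Q b} ≤ 2 * q ^ (m - 2) := by
      intro v₀ hv₀
      rcases isEmpty_or_nonempty {x : Fin m → F // B v₀ x = 0 ∧ Q x = Q b} with he | ⟨⟨e, he, heQ⟩⟩
      · simp
      let H : Submodule F (Fin m → F) :=
        LinearMap.ker ({ toFun := B v₀
                         map_add' := hf.polar_add hψ v₀
                         map_smul' := fun s x => by rw [hf.polar_smul hψ, RingHom.id_apply, smul_eq_mul] } :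
          (Fin m → F) →ₗ[F] F)
      have hH : ∀ x, x ∈ H ↔ B v₀ x = 0 := fun x => by simp [H]
      have := count_translates (X := H) (fun x => Q x.1 = Q b) (fun t : F => t • (⟨e, (hH e).2 he⟩ : H)) 2 fun x => ?_
      · have hHlt : H < ⊤ := lt_top_iff_ne_top.2 fun htop => by
          have := (hH v₀).1 (htop ▸ Submodule.mem_top)
          rw [hf.polar_self hψ, hv₀, ← two_mul] at this
          exact mul_ne_zero h2 ha this
        have hd : Module.finrank F H ≤ m - 1 := by
          have := Submodule.finrank_lt hHlt.ne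
          rw [Module.finrank_fin_fun] at this
          omega
        have hHc : Nat.card H ≤ q ^ (m - 2) * q := by
          rw [Module.natCard_eq_pow_finrank (K := F), Nat.card_eq_fintype_card, ← pow_succ]
          exact Nat.pow_le_pow_right hq (by omega)
        rw [Nat.card_eq_fintype_card (α := F)] at this
        refine le_trans (le_of_eq ?_) (Nat.le_of_mul_le_mul_right
          (this.trans ((Nat.mul_le_mul_right 2 hHc).trans_eq (by ring : q ^ (m - 2) * q * 2 = 2 * q ^ (m - 2) * q))) hq)
        exact (Nat.card_congr ((Equiv.subtypeSubtypeEquivSubtypeInter (fun x => x ∈ H) fun x => Q x = Q b).trans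
          (Equiv.subtypeEquivRight fun x => by rw [hH]))).symm
      refine le_of_eq_of_le (Nat.card_congr (Equiv.subtypeEquivRight fun t => ?_))
        (at_most_two (Q b) (B x.1 e) (Q x.1 - Q b) hb)
      change Q (x.1 + t • e) = Q b ↔ _
      rw [hf.line hψ, heQ]
      constructor <;> intro h <;> linear_combination h
    have hpairs : Nat.card {p : (Fin m → F) × (Fin m → F) // Q p.1 = Q a ∧ Q p.2 = Q b ∧ B p.1 p.2 = 0} ≤
        ((q + 1) * q ^ (m - 2)) * (2 * q ^ (m - 2)) := by
      let e : {p : (Fin m → F) × (Fin m → F) // Q p.1 = Q a ∧ Q p.2 = Q b ∧ B p.1 p.2 = 0} ≃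
          Σ v : {x : Fin m → F // Q x = Q a}, {x : Fin m → F // B v.1 x = 0 ∧ Q x = Q b} :=
        { toFun := fun p => ⟨⟨p.1.1, p.2.1⟩, p.1.2, p.2.2.2, p.2.2.1⟩
          invFun := fun s => ⟨(s.1.1, s.2.1), s.1.2, s.2.2.2, s.2.2.1⟩
          left_inv := fun p => rfl
          right_inv := fun s => rfl }
      rw [Nat.card_congr e, Nat.card_sigma]
      refine le_trans (Finset.sum_le_sum fun v _ => hw v.1 v.2) ?_
      rw [Finset.sum_const, Finset.card_univ, smul_eq_mul, ← Nat.card_eq_fintype_card]
      exact Nat.mul_le_mul_right _ hv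
    refine le_trans ?_ hpairs
    rw [Nat.card_eq_fintype_card]
    refine Finset.card_le_card_of_injOn (t := Finset.univ) (fun p => ?_) ?_ ?_ |>.trans_eq (Finset.card_univ)
    · exact if hp : Q ((g : Matrix (Fin m) (Fin m) F) *ᵥ p 0) = Q a ∧ Q ((g : Matrix (Fin m) (Fin m) F) *ᵥ p 1) = Q b ∧
          B ((g : Matrix (Fin m) (Fin m) F) *ᵥ p 0) ((g : Matrix (Fin m) (Fin m) F) *ᵥ p 1) = 0 then
        ⟨(_, _), hp⟩ else ⟨(a, b), rfl, rfl, hab⟩
    · exact fun _ _ => Finset.mem_univ _
    · intro p hp p' hp' e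
      simp only [Finset.mem_coe, Finset.mem_bipartiteBelow, hQc, hBc] at hp hp'
      simp only [dif_pos hp.2, dif_pos hp'.2] at e
      have e1 := congrArg (fun z => z.1.1) e
      have e2 := congrArg (fun z => z.1.2) e
      funext i
      have hinj := mulVec_injective_of_isUnit g.isUnit
      fin_cases i
      · exact hinj e1
      · exact hinj e2

end CfsgLib.Weil.Gap
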