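import Mathlib
import Cfsg.Agent.Lib.Weil.Blocks

/-!
Representations of the symplectic group in which only forms of rank at most one occur on the Siegel radical:
the part where the long root group of a point has a fixed character is a sum of Schrödinger models.
-/

namespace CfsgLib.Weil.Gap

open Matrix CfsgLib.Classical CfsgLib.MinDegree CfsgLib.Weil
open Cfsg (sympForm)

variable {F : Type*} [Field F] {k : ℕ} {V : Type*} [AddCommGroup V] [Module ℂ V]

/-- The first basis vector of the Lagrangian. -/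
def ev (k : ℕ) : Fin (k + 1) → F := Fin.cons 1 0

theorem e0_eq : e0 k = Sum.elim (ev k) (0 : Fin (k + 1) → F) := by
  funext z
  rcases z with i | i <;> cases i using Fin.cases <;> simp [e0, join, ev, b0]

theorem qF_scalar_eq (c : F) :
    qF (0 : Fin k ⊕ Fin k → F) c = spSHom (Multiplicative.ofAdd (MinDegree.sq (ev k) c)) := by
  rw [qF_scalar, e0_eq, spT_inl_eq]

theorem qF_inl_zero (a : Fin k → F) :
    qF (Sum.elim a (0 : Fin k → F)) 0 = spSHom (Multiplicative.ofAdd (sy (ev k) (Fin.cons 0 a) 1)) := by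
  rw [qF_inl]
  refine congrArg (fun S => spSHom (Multiplicative.ofAdd S)) ?_
  rw [show MinDegree.sq (Fin.cons 1 0 : Fin (k + 1) → F) 0 = 0 from Subtype.ext (zero_smul F _), zero_add]
  rfl

theorem qF_split (w : Fin k ⊕ Fin k → F) (c : F) : qF w c = qF w 0 * qF 0 c := by
  rw [qF_mul, add_zero, sympForm_zero_left, add_zero, zero_add]

variable [Fintype F] [DecidableEq F] (ψ : AddChar F ℂ)

/-- The Siegel radical only has weights of rank at most one. -/
def RankOne (ρ : Representation ℂ (symplecticGroup (Fin (k + 1)) F) V) : Prop :=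
  ∀ χ : AddChar (symA (k + 1) F) ℂ, weightSpace (ρ.comp spSHom) χ ≠ ⊥ →
    ∀ Q B, IsForm ψ χ Q B → ∀ v w, B v w * B v w = 4 * Q v * Q w

omit [DecidableEq F] in
/-- A vector fixed up to characters by some elements is fixed by `b` if this is so on all weights. -/
theorem fix_of_weights {A : Type*} [AddCommGroup A] [Fintype A] (π : Multiplicative A →* Module.End ℂ V) {v : V}
    {S : A → ℂ → Prop} (hv : ∀ a z, S a z → π (Multiplicative.ofAdd a) v = z • v) {b : A}
    (h : ∀ χ : AddChar A ℂ, weightSpace π χ ≠ ⊥ → (∀ a z, S a z → χ a = z) → χ b = 1) :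
    π (Multiplicative.ofAdd b) v = v := by
  classical
  have htot : ∀ w : V, ∑ χ : AddChar A ℂ, weightProj π χ w = (Fintype.card A : ℂ) • w := by
    intro w
    simp only [weightProj_apply]
    rw [Finset.sum_comm]
    simp only [← Finset.sum_smul]
    rw [Finset.sum_eq_single (0 : A) (fun a _ ha => ?_) (by simp)]
    · simp [AddChar.card_eq]
    · rw [AddChar.sum_apply_eq_ite, if_neg (neg_ne_zero.2 ha), zero_smul]
  have hterm : ∀ χ : AddChar A ℂ, π (Multiplicative.ofAdd b) (weightProj π χ v) = weightProj π χ v := by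
    intro χ
    by_cases h0 : weightProj π χ v = 0
    · simp [h0]
    have hmem := weightProj_mem π χ v
    have hne : weightSpace π χ ≠ ⊥ := (Submodule.ne_bot_iff _).2 ⟨_, hmem, h0⟩
    have hχ : ∀ a z, S a z → χ a = z := by
      intro a z ha
      have hcomm : π (Multiplicative.ofAdd a) (weightProj π χ v) = weightProj π χ (π (Multiplicative.ofAdd a) v) := by
        rw [weightProj_apply, weightProj_apply, map_sum]
        refine Finset.sum_congr rfl fun x _ => ?_
        rw [map_smul, ← Module.End.mul_apply, ← Module.End.mul_apply, ← π.map_mul, ← π.map_mul,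
          mul_comm (Multiplicative.ofAdd a)]
      rw [hmem a, hv a z ha, map_smul] at hcomm
      exact smul_left_injective ℂ h0 hcomm
    rw [hmem b, h χ hne hχ, one_smul]
  have h1 := congrArg (π (Multiplicative.ofAdd b)) (htot v)
  rw [map_sum, map_smul, Finset.sum_congr rfl fun χ _ => hterm χ, htot] at h1
  exact (smul_right_injective V (Nat.cast_ne_zero.2 Fintype.card_ne_zero : (Fintype.card A : ℂ) ≠ 0) h1).symm

omit [DecidableEq F] in
theorem exists_forms (hψ : ψ ≠ 1) (χ : AddChar (symA (k + 1) F) ℂ) : ∃ Q B, IsForm ψ χ Q B :=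
  exists_form (by exact_mod_cast Fintype.card_ne_zero) hψ χ

variable {ψ} {ρ : Representation ℂ (symplecticGroup (Fin (k + 1)) F) V} (h2 : (2 : F) ≠ 0) (hψ : ψ ≠ 1)
  (hR : RankOne ψ ρ)

include h2 hψ hR in
/-- The transvections of the complement fix the vectors fixed by the first coordinates. -/
theorem fix_lower {v : V} (hz : ∀ c, ρ (qF 0 c) v = ψ (c / 2) • v)
    (hc : ∀ a : Fin k → F, ρ (qF (Sum.elim a (0 : Fin k → F)) 0) v = v) (a : Fin k → F) (c : F) :
    ρ (spSHom (Multiplicative.ofAdd (MinDegree.sq (Fin.cons 0 a : Fin (k + 1) → F) c))) v = v := by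
  haveI : Fintype (symA (k + 1) F) := Fintype.ofFinite _
  refine fix_of_weights (ρ.comp spSHom) (S := fun s z => (∃ d, s = MinDegree.sq (ev k) d ∧ z = ψ (d / 2)) ∨
    (∃ b, s = sy (ev k) (Fin.cons 0 b) 1 ∧ z = 1)) ?_ ?_
  · rintro s z (⟨d, rfl, rfl⟩ | ⟨b, rfl, rfl⟩)
    · rw [MonoidHom.comp_apply, ← qF_scalar_eq, hz]
    · rw [MonoidHom.comp_apply, ← qF_inl_zero, hc, one_smul]
  · intro χ hχ hS
    obtain ⟨Q, B, hf⟩ := exists_forms ψ hψ χ
    have hQ : Q (ev k) = 2⁻¹ := cancel_shift hψ fun d => by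
      rw [← hf.sq_eq, hS _ _ (Or.inl ⟨d, rfl, rfl⟩), div_eq_mul_inv]
    have hB : B (ev k) (Fin.cons 0 a) = 0 := cancel_shift hψ fun d => by
      rw [mul_zero, AddChar.map_zero_eq_one, ← hf.sy_eq, ← hS _ _ (Or.inr ⟨d • a, rfl, rfl⟩)]
      refine congrArg χ (Subtype.ext ?_)
      have : (Fin.cons 0 (d • a) : Fin (k + 1) → F) = d • Fin.cons 0 a := by
        funext i; cases i using Fin.cases <;> simp
      simp [sy, this, vecMulVec_smul, smul_vecMulVec, smul_add]
    have h4 := hR χ hχ Q B hf (ev k) (Fin.cons 0 a)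
    rw [hB, hQ, zero_mul] at h4
    have h5 : Q (Fin.cons 0 a) = 0 := (mul_eq_zero.1 h4.symm).resolve_left
      (mul_ne_zero (by rw [show (4 : F) = 2 * 2 by norm_num]; exact mul_ne_zero h2 h2) (inv_ne_zero h2))
    rw [hf.sq_eq, h5, mul_zero, AddChar.map_zero_eq_one]

include hψ hR in
theorem fix_cross {v : V} (hz : ∀ c, ρ (qF 0 c) v = v) (a : Fin k → F) :
    ρ (qF (Sum.elim a (0 : Fin k → F)) 0) v = v := by
  haveI : Fintype (symA (k + 1) F) := Fintype.ofFinite _
  rw [qF_inl_zero]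
  refine fix_of_weights (ρ.comp spSHom) (S := fun s z => ∃ d, s = MinDegree.sq (ev k) d ∧ z = 1) ?_ ?_
  · rintro s z ⟨d, rfl, rfl⟩
    rw [MonoidHom.comp_apply, ← qF_scalar_eq, hz, one_smul]
  · intro χ hχ hS
    obtain ⟨Q, B, hf⟩ := exists_forms ψ hψ χ
    have hQ : Q (ev k) = 0 := cancel_shift hψ fun d => by
      rw [← hf.sq_eq, hS _ _ ⟨d, rfl, rfl⟩, mul_zero, AddChar.map_zero_eq_one]
    have h4 := hR χ hχ Q B hf (ev k) (Fin.cons 0 a)
    rw [hQ, mul_zero, zero_mul] at h4
    rw [hf.sy_eq, mul_self_eq_zero.1 h4, mul_zero, AddChar.map_zero_eq_one]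

/-- An equivariant map from the Schrödinger model. -/
def IsModel (ψ : AddChar F ℂ) (ρ : Representation ℂ (symplecticGroup (Fin (k + 1)) F) V)
    (Φ : ((Fin k → F) → ℂ) →ₗ[ℂ] V) : Prop :=
  ∀ w c f, ρ (qF w c) (Φ f) = ψ (c / 2) • Φ (hop ψ w *ᵥ f)

omit hR in
theorem hop_inr_single (x y : Fin k → F) :
    hop ψ (Sum.elim (0 : Fin k → F) x) *ᵥ Pi.single y 1 = Pi.single (y + x) 1 := by
  funext z
  rw [hop_mulVec, Sum.elim_comp_inl, Sum.elim_comp_inr, zero_dotProduct, zero_dotProduct, zero_div, sub_zero,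
    AddChar.map_zero_eq_one, one_mul, Pi.single_apply, Pi.single_apply]
  exact if_congr sub_eq_iff_eq_add rfl rfl

theorem IsModel.single {Φ : ((Fin k → F) → ℂ) →ₗ[ℂ] V} (hΦ : IsModel ψ ρ Φ) (x : Fin k → F) :
    Φ (Pi.single x 1) = ρ (qF (Sum.elim (0 : Fin k → F) x) 0) (Φ (Pi.single 0 1)) := by
  rw [hΦ, zero_div, AddChar.map_zero_eq_one, one_smul, hop_inr_single, zero_add]

theorem IsModel.ext {Φ Φ' : ((Fin k → F) → ℂ) →ₗ[ℂ] V} (hΦ : IsModel ψ ρ Φ) (hΦ' : IsModel ψ ρ Φ')
    (h : Φ (Pi.single 0 1) = Φ' (Pi.single 0 1)) : Φ = Φ' := by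
  refine LinearMap.pi_ext' fun x => LinearMap.ext_ring ?_
  simp only [LinearMap.comp_apply, LinearMap.single_apply]
  rw [hΦ.single, hΦ'.single, h]

theorem IsModel.zero_eigen {Φ : ((Fin k → F) → ℂ) →ₗ[ℂ] V} (hΦ : IsModel ψ ρ Φ) (c : F) (f : (Fin k → F) → ℂ) :
    ρ (qF 0 c) (Φ f) = ψ (c / 2) • Φ f := by
  rw [hΦ]
  congr 2
  funext x
  simp [hop_mulVec]

theorem IsModel.inl_fix {Φ : ((Fin k → F) → ℂ) →ₗ[ℂ] V} (hΦ : IsModel ψ ρ Φ) (a : Fin k → F) :
    ρ (qF (Sum.elim a (0 : Fin k → F)) 0) (Φ (Pi.single 0 1)) = Φ (Pi.single 0 1) := by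
  rw [hΦ, zero_div, AddChar.map_zero_eq_one, one_smul]
  congr 1
  funext x
  rw [hop_mulVec, Sum.elim_comp_inl, Sum.elim_comp_inr, sub_zero, dotProduct_zero, zero_div, sub_zero,
    Pi.single_apply]
  split_ifs with h
  · simp [h]
  · simp

include h2 in
omit hR in
/-- A vector with the right eigenvalues gives a model. -/
theorem exists_model {m : V} (hz : ∀ c, ρ (qF 0 c) m = ψ (c / 2) • m)
    (hc : ∀ a : Fin k → F, ρ (qF (Sum.elim a (0 : Fin k → F)) 0) m = m) :
    ∃ Φ : ((Fin k → F) → ℂ) →ₗ[ℂ] V, IsModel ψ ρ Φ ∧ Φ (Pi.single 0 1) = m := by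
  set g : (Fin k → F) → V := fun x => ρ (qF (Sum.elim (0 : Fin k → F) x) 0) m
  set Φ : ((Fin k → F) → ℂ) →ₗ[ℂ] V := Fintype.linearCombination ℂ g with hΦ
  have hs : ∀ x, Φ (Pi.single x 1) = g x := fun x => by
    rw [hΦ, Fintype.linearCombination_apply_single, one_smul]
  refine ⟨Φ, ?_, by rw [hs]; simp [g, qF_zero]⟩
  intro w c f
  suffices h : (ρ (qF w c)).comp Φ = (ψ (c / 2)) • Φ.comp (Matrix.toLin' (hop ψ w)) by
    simpa using LinearMap.congr_fun h f
  refine LinearMap.pi_ext' fun x => LinearMap.ext_ring ?_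
  simp only [LinearMap.comp_apply, LinearMap.single_apply, LinearMap.smul_apply, Matrix.toLin'_apply, hs]
  obtain ⟨a, b, rfl⟩ : ∃ a b : Fin k → F, w = Sum.elim a b := ⟨w ∘ Sum.inl, w ∘ Sum.inr, (Sum.elim_comp_inl_inr w).symm⟩
  have hhop : hop ψ (Sum.elim a b) *ᵥ (Pi.single x 1 : (Fin k → F) → ℂ) =
      ψ (a ⬝ᵥ x + a ⬝ᵥ b / 2) • (Pi.single (x + b) 1 : (Fin k → F) → ℂ) := by
    funext z
    rw [hop_mulVec, Sum.elim_comp_inl, Sum.elim_comp_inr, Pi.smul_apply, Pi.single_apply, Pi.single_apply, smul_eq_mul]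
    by_cases h : z = x + b
    · subst h
      rw [if_pos (by simp), if_pos rfl, mul_one, mul_one, dotProduct_add]
      congr 1
      field_simp
      ring
    · rw [if_neg h, if_neg (fun e => h (sub_eq_iff_eq_add.1 e)), mul_zero, mul_zero]
  rw [hhop, map_smul, hs, smul_smul, ← AddChar.map_add_eq_mul]
  change ρ (qF (Sum.elim a b) c) (ρ (qF (Sum.elim (0 : Fin k → F) x) 0) m) = _
  have e1 : Sum.elim a b + Sum.elim (0 : Fin k → F) x = Sum.elim (0 : Fin k → F) (x + b) + Sum.elim a (0 : Fin k → F) := by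
    funext z; rcases z with i | i <;> simp [add_comm]
  have e2 : qF (Sum.elim a b) c * qF (Sum.elim (0 : Fin k → F) x) 0 =
      qF (Sum.elim (0 : Fin k → F) (x + b)) 0 * qF (Sum.elim a (0 : Fin k → F)) (c + a ⬝ᵥ x + a ⬝ᵥ (x + b)) := by
    rw [qF_mul, qF_mul, e1]
    congr 1
    simp only [sympForm_eq, Sum.elim_inl, Sum.elim_inr, Pi.zero_apply, mul_zero, zero_mul, sub_zero, zero_sub,
      Finset.sum_neg_distrib, dotProduct, Pi.add_apply]
    simp only [mul_comm (x _) (a _)]
    ring_nf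
  rw [← Module.End.mul_apply, ← map_mul, e2, map_mul, Module.End.mul_apply, qF_split _ (c + _ + _), map_mul,
    Module.End.mul_apply, hz, map_smul, hc, map_smul]
  congr 2
  rw [dotProduct_add]
  field_simp
  ring

include h2 hψ in
omit hR in
/-- The models span. -/
theorem mem_span_models {v : V} (hv : ∀ c, ρ (qF 0 c) v = ψ (c / 2) • v) :
    v ∈ Submodule.span ℂ {u | ∃ Φ, IsModel ψ ρ Φ ∧ ∃ x : Fin k → F, u = Φ (Pi.single x 1)} := by
  set U := Submodule.span ℂ {u | ∃ Φ, IsModel ψ ρ Φ ∧ ∃ x : Fin k → F, u = Φ (Pi.single x 1)}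
  set i0 : (Fin k → F) → Fin k ⊕ Fin k → F := fun a => Sum.elim a (0 : Fin k → F)
  set j0 : (Fin k → F) → Fin k ⊕ Fin k → F := fun b => Sum.elim (0 : Fin k → F) b
  have hcomm : ∀ g w c, ρ (qF 0 c) (ρ (qF w g) v) = ψ (c / 2) • ρ (qF w g) v := fun g w c => by
    rw [← Module.End.mul_apply, ← map_mul, show qF 0 c * qF w g = qF w g * qF 0 c by
      rw [qF_mul, qF_mul, sympForm_zero_left, sympForm_zero_right, zero_add, add_zero, add_zero, add_zero, add_comm c],
      map_mul, Module.End.mul_apply, hv, map_smul]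
  have hterm : ∀ x, ρ (qF (j0 x) 0) (∑ a, ρ (qF (i0 a) 0) (ρ (qF (j0 (-x)) 0) v)) ∈ U := by
    intro x
    set m := ∑ a, ρ (qF (i0 a) 0) (ρ (qF (j0 (-x)) 0) v)
    have hz : ∀ c, ρ (qF 0 c) m = ψ (c / 2) • m := fun c => by
      rw [map_sum, Finset.smul_sum]
      refine Finset.sum_congr rfl fun a _ => ?_
      rw [← Module.End.mul_apply (ρ (qF (i0 a) 0)), ← map_mul, qF_mul, hcomm]
    have hc : ∀ a : Fin k → F, ρ (qF (Sum.elim a (0 : Fin k → F)) 0) m = m := fun a => by
      rw [map_sum]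
      refine Fintype.sum_equiv (Equiv.addLeft a) _ _ fun b => ?_
      rw [Equiv.coe_addLeft, ← Module.End.mul_apply, ← map_mul, qF_mul]
      congr 3
      · funext z; rcases z with i | i <;> simp [i0]
      · simp [i0, sympForm_eq]
    obtain ⟨Φ, hΦ, hm⟩ := exists_model h2 hz hc
    refine Submodule.subset_span ⟨Φ, hΦ, x, ?_⟩
    rw [hΦ.single, hm]
  have hsum : ∑ x, ρ (qF (j0 x) 0) (∑ a, ρ (qF (i0 a) 0) (ρ (qF (j0 (-x)) 0) v)) =
      ((Fintype.card F : ℂ) ^ k) • v := by
    simp only [map_sum]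
    rw [Finset.sum_comm]
    have hprod : ∀ a x, ρ (qF (j0 x) 0) (ρ (qF (i0 a) 0) (ρ (qF (j0 (-x)) 0) v)) =
        ψ (x ⬝ᵥ -a) • ρ (qF (i0 a) 0) v := by
      intro a x
      rw [← Module.End.mul_apply, ← Module.End.mul_apply, ← map_mul, ← map_mul, qF_mul, qF_mul,
        qF_split _ (_ : F), map_mul, Module.End.mul_apply, hv, map_smul]
      congr 3
      · simp only [i0, j0, sympForm_eq, Pi.add_apply, Sum.elim_inl, Sum.elim_inr, Pi.zero_apply, Pi.neg_apply,
          dotProduct, zero_mul, mul_zero, sub_zero, zero_sub, add_zero, zero_add]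
        rw [← Finset.sum_add_distrib, Finset.sum_div]
        refine Finset.sum_congr rfl fun i _ => ?_
        field_simp
        ring
      · congr 1
        funext z; rcases z with i | i <;> simp [i0, j0]
    simp only [hprod, ← Finset.sum_smul, charSum ψ hψ, neg_eq_zero]
    rw [Finset.sum_eq_single 0 (fun a _ ha => by rw [if_neg ha, zero_smul]) (by simp), if_pos rfl]
    congr 1
    have : i0 (0 : Fin k → F) = 0 := funext fun z => by rcases z with i | i <;> rfl
    rw [this, qF_zero, map_one, Module.End.one_apply]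
  have := U.sum_mem (t := Finset.univ) fun x _ => hterm x
  rw [hsum] at this
  exact (U.smul_mem_iff (pow_ne_zero _ (Nat.cast_ne_zero.2 Fintype.card_ne_zero))).1 this

include hR in
/-- The complement acts on each model by the Weil representation. -/
theorem model_equiv (hk : 1 ≤ k) {Φ : ((Fin k → F) → ℂ) →ₗ[ℂ] V} (hΦ : IsModel ψ ρ Φ)
    (g : symplecticGroup (Fin k) F) (f : (Fin k → F) → ℂ) :
    ρ (emB k g) (Φ f) = Φ (weil ψ h2 hψ g f) := by
  let P : symplecticGroup (Fin k) F → Prop := fun g => ∀ Φ : ((Fin k → F) → ℂ) →ₗ[ℂ] V, IsModel ψ ρ Φ →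
    (ρ (emB k g)).comp Φ = Φ.comp (weil ψ h2 hψ g)
  have hcov : ∀ (h : symplecticGroup (Fin k) F) (Φ : ((Fin k → F) → ℂ) →ₗ[ℂ] V), IsModel ψ ρ Φ →
      IsModel ψ ρ ((ρ (emB k h⁻¹)).comp (Φ.comp (weil ψ h2 hψ h))) := by
    intro h Φ hΦ w c f
    simp only [LinearMap.comp_apply]
    rw [weil_hop ψ h2 hψ, ← map_smul, ← hΦ, ← Module.End.mul_apply, ← Module.End.mul_apply, ← map_mul, ← map_mul,
      ← qF_conj_emB h w c, map_inv, ← mul_assoc, ← mul_assoc, inv_mul_cancel, one_mul]
  let K : Subgroup (symplecticGroup (Fin k) F) :=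
    { carrier := {g | P g}
      one_mem' := fun Φ _ => by simp [Module.End.one_eq_id]
      mul_mem' := fun {a b} ha hb Φ hΦ => LinearMap.ext fun f => by
        have e1 := LinearMap.congr_fun (hb Φ hΦ) f
        have e2 := LinearMap.congr_fun (ha Φ hΦ) (weil ψ h2 hψ b f)
        simp only [LinearMap.comp_apply] at e1 e2 ⊢
        rw [map_mul, map_mul, map_mul, Module.End.mul_apply, Module.End.mul_apply, e1, e2]
      inv_mem' := fun {a} ha Φ hΦ => LinearMap.ext fun f => by
        have e := LinearMap.congr_fun (ha Φ hΦ) (weil ψ h2 hψ a⁻¹ f)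
        simp only [LinearMap.comp_apply] at e ⊢
        rw [← Module.End.mul_apply (weil ψ h2 hψ a), ← map_mul, mul_inv_cancel, map_one, Module.End.one_apply] at e
        rw [← e, ← Module.End.mul_apply, ← map_mul, ← map_mul, inv_mul_cancel, map_one, map_one, Module.End.one_apply] }
  haveI : K.Normal := ⟨fun a (ha : P a) h => fun Φ hΦ => LinearMap.ext fun f => by
    have e := LinearMap.congr_fun (ha _ (hcov h Φ hΦ)) (weil ψ h2 hψ h⁻¹ f)
    simp only [LinearMap.comp_apply] at e ⊢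
    rw [← Module.End.mul_apply (weil ψ h2 hψ h), ← map_mul, mul_inv_cancel, map_one, Module.End.one_apply] at e
    have e' := congrArg (ρ (emB k h)) e
    simp only [← Module.End.mul_apply, ← map_mul] at e'
    simp only [← mul_assoc, mul_inv_cancel, one_mul] at e'
    simpa only [← Module.End.mul_apply, ← map_mul, mul_assoc, map_one, one_mul, Module.End.one_apply] using e'⟩
  have htop := spT_eq_one_of_spS hk (N := K) fun c => by
    intro Φ hΦ
    set u := spS (Matrix.single (⟨0, hk⟩ : Fin k) ⟨0, hk⟩ c) (isSymm_single _ c)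
    have hfix : weil ψ h2 hψ u (Pi.single 0 1) = Pi.single 0 1 := by
      funext x
      rw [weil_spS]
      by_cases hx : x = 0
      · subst hx; simp
      · simp [Pi.single_apply, hx]
    have hu : emB k u = spSHom (Multiplicative.ofAdd
        (MinDegree.sq (Fin.cons 0 (Pi.single (⟨0, hk⟩ : Fin k) 1) : Fin (k + 1) → F) c)) := by
      simp only [u]
      rw [spS_single_eq_spT, spT_join_right, ← spT_inl_eq]
      congr 1
      funext z
      rcases z with i | i <;> cases i using Fin.cases <;> simp [join, Pi.single_apply]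
    have := IsModel.ext (hcov u Φ hΦ) hΦ (by
      simp only [LinearMap.comp_apply, hfix]
      have e : ρ (emB k u) (Φ (Pi.single 0 1)) = Φ (Pi.single 0 1) := by
        rw [hu]; exact fix_lower h2 hψ hR (fun c => hΦ.zero_eigen c _) hΦ.inl_fix _ c
      conv_lhs => rw [← e, ← Module.End.mul_apply, ← map_mul, ← map_mul, inv_mul_cancel, map_one, map_one,
        Module.End.one_apply])
    refine LinearMap.ext fun f => ?_
    simp only [LinearMap.comp_apply]
    conv_lhs => rw [← this]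
    simp only [LinearMap.comp_apply]
    rw [← Module.End.mul_apply, ← map_mul, ← map_mul, mul_inv_cancel, map_one, map_one, Module.End.one_apply]
  exact LinearMap.congr_fun ((htop ▸ Subgroup.mem_top g : g ∈ K) Φ hΦ) f

include h2 hψ hR in
/-- The Heisenberg group fixes what its centre fixes. -/
theorem heis_fix {v : V} (hz : ∀ c, ρ (qF 0 c) v = v) (w : Fin k ⊕ Fin k → F) (c : F) : ρ (qF w c) v = v := by
  set Jk := SymplecticGroup.symJ (Fin k) F
  have hinr : ∀ b : Fin k → F, ρ (qF (Sum.elim (0 : Fin k → F) b) 0) v = v := by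
    intro b
    have e : Jk.1 *ᵥ (Sum.elim b (0 : Fin k → F)) = Sum.elim (0 : Fin k → F) b := by
      change J (Fin k) F *ᵥ _ = _
      rw [J_mulVec]; funext z; rcases z with i | i <;> simp
    have hz' : ∀ c, ρ (qF 0 c) (ρ (emB k Jk)⁻¹ v) = ρ (emB k Jk)⁻¹ v := fun c => by
      have h1 : qF 0 c * (emB k Jk)⁻¹ = (emB k Jk)⁻¹ * qF 0 c := by
        have := qF_conj_emB Jk (0 : Fin k ⊕ Fin k → F) c
        rw [mulVec_zero, mul_inv_eq_iff_eq_mul] at this
        rw [eq_inv_mul_iff_mul_eq, ← mul_assoc, this, mul_inv_cancel_right]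
      rw [← Module.End.mul_apply, ← map_mul, h1, map_mul, Module.End.mul_apply, hz]
    rw [← e, ← qF_conj_emB, map_mul, map_mul, Module.End.mul_apply, Module.End.mul_apply, fix_cross hψ hR hz',
      ← Module.End.mul_apply, ← map_mul, mul_inv_cancel, map_one, Module.End.one_apply]
  obtain ⟨a, b, rfl⟩ : ∃ a b : Fin k → F, w = Sum.elim a (0 : Fin k → F) + Sum.elim (0 : Fin k → F) b :=
    ⟨w ∘ Sum.inl, w ∘ Sum.inr, funext fun z => by rcases z with i | i <;> simp⟩
  have h := qF_mul (Sum.elim a (0 : Fin k → F)) (Sum.elim (0 : Fin k → F) b) 0 0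
  rw [zero_add, zero_add] at h
  set s := sympForm k F (Sum.elim (0 : Fin k → F) b) (Sum.elim a (0 : Fin k → F))
  have h' : qF (Sum.elim a (0 : Fin k → F) + Sum.elim (0 : Fin k → F) b) c =
      qF (Sum.elim a (0 : Fin k → F)) 0 * qF (Sum.elim (0 : Fin k → F) b) 0 * qF 0 (c - s) := by
    rw [h, qF_mul, sympForm_zero_left, add_zero, add_zero, add_sub_cancel]
  rw [h', map_mul, map_mul, Module.End.mul_apply, Module.End.mul_apply, hz, hinr, fix_cross hψ hR hz]

end CfsgLib.Weil.Gap
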