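import Mathlib
import Cfsg.Agent.Lib.Weil.Gap.Model

/-!
A representation of the symplectic group with only rank one forms on the Siegel radical receives a non-zero map
from a Weil representation.
-/

namespace CfsgLib.Weil.Gap

open Matrix CfsgLib.Classical CfsgLib.MinDegree CfsgLib.Weil
open Cfsg (sympForm)

section Group

variable {F : Type*} [Field F] {k l : ℕ}

theorem join_zero : join (0 : Fin 1 ⊕ Fin 1 → F) (0 : Fin k ⊕ Fin k → F) = 0 := by
  funext z; rcases z with i | i <;> cases i using Fin.cases <;> rfl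

/-- The permutation of coordinates exchanging the first two pairs. -/
def swapIdx (l : ℕ) : Fin (l + 2) ⊕ Fin (l + 2) ≃ Fin (l + 2) ⊕ Fin (l + 2) :=
  (Equiv.swap 0 1).sumCongr (Equiv.swap 0 1)

theorem swapM_mulVec (w : Fin (l + 2) ⊕ Fin (l + 2) → F) :
    ((1 : Matrix (Fin (l + 2) ⊕ Fin (l + 2)) _ F).submatrix (swapIdx l) id) *ᵥ w = w ∘ swapIdx l := by
  funext i
  simp [mulVec, dotProduct, Matrix.one_apply]

/-- The element exchanging the first two hyperbolic pairs. -/
def swp (l : ℕ) : symplecticGroup (Fin (l + 2)) F :=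
  ⟨(1 : Matrix (Fin (l + 2) ⊕ Fin (l + 2)) _ F).submatrix (swapIdx l) id, by
    rw [mem_sp_iff]
    intro u v
    rw [swapM_mulVec, swapM_mulVec, sympForm_eq, sympForm_eq]
    exact Equiv.sum_comp (Equiv.swap (0 : Fin (l + 2)) 1)
      fun i => u (Sum.inr i) * v (Sum.inl i) - u (Sum.inl i) * v (Sum.inr i)⟩

theorem swp_join (u u' : Fin 1 ⊕ Fin 1 → F) (v : Fin l ⊕ Fin l → F) :
    (swp l).1 *ᵥ join u (join u' v) = join u' (join u v) := by
  change ((1 : Matrix (Fin (l + 2) ⊕ Fin (l + 2)) _ F).submatrix (swapIdx l) id) *ᵥ _ = _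
  rw [swapM_mulVec]
  funext z
  rcases z with i | i <;> cases i using Fin.cases with
  | zero => rfl
  | succ i =>
    cases i using Fin.cases with
    | zero => rfl
    | succ i =>
      have e : Equiv.swap (0 : Fin (l + 2)) 1 i.succ.succ = i.succ.succ :=
        Equiv.swap_apply_of_ne_of_ne (Fin.succ_ne_zero _) (by simp [Fin.ext_iff])
      simp [swapIdx, e, join]

theorem swp_emA (h : symplecticGroup (Fin 1) F) : swp l * emA (l + 1) h = emB (l + 1) (emA l h) * swp l := by
  refine sp_ext fun w => ?_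
  obtain ⟨u, v, rfl⟩ := exists_join w
  obtain ⟨u', v', rfl⟩ := exists_join v
  simp only [Submonoid.coe_mul, ← mulVec_mulVec, emA_join, swp_join, emB_join]

theorem qF_swp (c : F) : qF (0 : Fin (l + 1) ⊕ Fin (l + 1) → F) c * swp l = swp l * emB (l + 1) (qF 0 c) := by
  have h := mul_inv_eq_iff_eq_mul.1 (spT_conj (swp l) (join 0 (e0 l)) c)
  rw [e0, swp_join, join_zero] at h
  rw [qF_scalar, qF_scalar, spT_join_right, e0, e0, h]

/-- A scalar matrix in the group of a plane. -/
noncomputable def tor (s : Fˣ) : symplecticGroup (Fin 1) F :=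
  spD (Units.map (Matrix.scalar (Fin 1)).toMonoidHom s)

theorem tor_b0 (s : Fˣ) (t : F) (h : (s : F) * t = 1) : (tor s).1 *ᵥ (t • (b0 : Fin 1 ⊕ Fin 1 → F)) = b0 := by
  change fromBlocks _ 0 0 _ *ᵥ _ = _
  rw [fromBlocks_mulVec]
  funext z
  rcases z with i | i
  · simp [b0, mulVec, dotProduct, Matrix.diagonal, h, Fin.fin_one_eq_zero]
  · simp [b0, mulVec, dotProduct]

variable [Fintype F]

/-- The three kinds of elements generate. -/
theorem closure_eq_top (N : Subgroup (symplecticGroup (Fin (k + 1)) F)) (hA : ∀ g, emA k g ∈ N)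
    (hq : ∀ w c, qF w c ∈ N) : N = ⊤ := by
  set O := {v : Fin (k + 1) ⊕ Fin (k + 1) → F | ∃ g ∈ N, g.1 *ᵥ e0 k = v}
  have hstep : ∀ g ∈ N, ∀ v, g.1 *ᵥ v ∈ O → v ∈ O := by
    rintro g hg v ⟨h, hh, e⟩
    refine ⟨g⁻¹ * h, mul_mem (inv_mem hg) hh, ?_⟩
    rw [Submonoid.coe_mul, ← mulVec_mulVec, e, sp_inv_mulVec]
  have hstep' : ∀ g ∈ N, ∀ v ∈ O, g.1 *ᵥ v ∈ O := by
    rintro g hg _ ⟨h, hh, rfl⟩
    exact ⟨g * h, mul_mem hg hh, by rw [Submonoid.coe_mul, ← mulVec_mulVec]⟩
  have hb0 : (b0 : Fin 1 ⊕ Fin 1 → F) ≠ 0 := fun e => by simpa [b0] using congrFun e (Sum.inl 0)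
  have hu : ∀ u : Fin 1 ⊕ Fin 1 → F, u ≠ 0 → join u (0 : Fin k ⊕ Fin k → F) ∈ O := by
    intro u hu
    obtain ⟨g, -, hg⟩ := exists_sp_move hb0 hu
    exact ⟨emA k g, hA g, by rw [e0, emA_join, hg]⟩
  have hsymp : ∀ u : Fin 1 ⊕ Fin 1 → F, sympForm 1 F u b0 = u (Sum.inr 0) := fun u => by simp [sympForm_eq, b0]
  have hbeta : ∀ (u : Fin 1 ⊕ Fin 1 → F) v, u (Sum.inr 0) ≠ 0 → join u v ∈ O := by
    intro u v hb
    have h := hstep' _ (hq ((u (Sum.inr 0))⁻¹ • v) 0) _ (hu u fun e => hb (by rw [e]; rfl))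
    rwa [qF_apply, e0, sympForm_join, sympForm_join, hsymp, sympForm_zero_left, sympForm_zero_left,
      sympForm_zero_right, add_zero, zero_add, zero_mul, zero_smul, add_zero, add_zero, smul_join,
      smul_zero, smul_smul, mul_inv_cancel₀ hb, one_smul, join_add, add_zero, zero_add] at h
  have hall : ∀ u : Fin 1 ⊕ Fin 1 → F, u ≠ 0 → ∀ v, join u v ∈ O := by
    intro u hu v
    obtain ⟨g, -, hg⟩ := exists_sp_move hu (w := Sum.elim 0 1) fun e => by simpa using congrFun e (Sum.inr 0)
    refine hstep (emA k g) (hA g) _ ?_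
    rw [emA_join, hg]
    exact hbeta _ _ (by simp)
  have htop : ∀ v : Fin (k + 1) ⊕ Fin (k + 1) → F, v ≠ 0 → v ∈ O := by
    intro w hw
    obtain ⟨u, v, rfl⟩ := exists_join w
    by_cases hu0 : u = 0
    · subst hu0
      have hv : v ≠ 0 := fun e => hw (by rw [e, join_zero])
      obtain ⟨x, hx⟩ := exists_sympForm_ne_zero hv
      refine hstep (qF x 0) (hq x 0) _ ?_
      rw [qF_apply, e0, sympForm_join, sympForm_join, sympForm_zero_left, sympForm_zero_left, sympForm_zero_right,
        add_zero, zero_add, mul_zero, zero_smul, zero_smul, add_zero, add_zero, smul_join, smul_zero, join_add,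
        add_zero, zero_add]
      exact hall _ (smul_ne_zero hx hb0) _
    · exact hall u hu0 v
  rw [eq_top_iff, ← spTGroup_univ, spTGroup, Subgroup.closure_le]
  rintro A ⟨v, -, c, rfl⟩
  rcases eq_or_ne v 0 with rfl | hv
  · rw [show spT (0 : Fin (k + 1) ⊕ Fin (k + 1) → F) c = 1 from sp_ext fun x => by simp [spT_apply]]
    exact one_mem _
  · obtain ⟨g, hg, e⟩ := htop v hv
    rw [← e, ← spT_conj, ← qF_scalar]
    exact mul_mem (mul_mem hg (hq 0 c)) (inv_mem hg)

end Group

section Hom

variable {F : Type*} [Field F] [Fintype F] [DecidableEq F] {k l : ℕ} (ψ : AddChar F ℂ) (h2 : (2 : F) ≠ 0)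
  (hψ : ψ ≠ 1) {V : Type*} [AddCommGroup V] [Module ℂ V]

/-- Vectors on which the root group of the first basis vector has the given character. -/
def Eig (ρ : Representation ℂ (symplecticGroup (Fin (k + 1)) F) V) (v : V) : Prop :=
  ∀ c, ρ (qF 0 c) v = ψ (c / 2) • v

/-- Multiplying a function of the first coordinate by one of the others. -/
def pt (f : (Fin k → F) → ℂ) : ((Fin 1 → F) → ℂ) →ₗ[ℂ] ((Fin (k + 1) → F) → ℂ) where
  toFun p y := p (fun _ => y 0) * f (Fin.tail y)
  map_add' p p' := funext fun y => by simp [add_mul]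
  map_smul' c p := funext fun y => by simp [mul_assoc]

theorem col_pt (p : (Fin 1 → F) → ℂ) (f : (Fin k → F) → ℂ) (x : Fin k → F) : col x (pt f p) = f x • p := by
  funext t
  simp only [col, LinearMap.funLeft_apply, pt, LinearMap.coe_mk, AddHom.coe_mk, Fin.cons_zero, Fin.tail_cons,
    Pi.smul_apply, smul_eq_mul]
  rw [mul_comm, show (fun _ : Fin 1 => t 0) = t from funext fun i => by rw [Subsingleton.elim i 0]]

theorem row_pt (p : (Fin 1 → F) → ℂ) (f : (Fin k → F) → ℂ) (t : F) : row t (pt f p) = p (fun _ => t) • f := by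
  funext x
  simp [row, LinearMap.funLeft_apply, pt]

theorem col_ext {f f' : (Fin (k + 1) → F) → ℂ} (h : ∀ x, col x f = col x f') : f = f' := funext fun y => by
  have := congrFun (h (Fin.tail y)) fun _ => y 0
  simpa [col, LinearMap.funLeft_apply] using this

theorem row_ext {f f' : (Fin (k + 1) → F) → ℂ} (h : ∀ t, row t f = row t f') : f = f' := funext fun y => by
  have := congrFun (h (y 0)) (Fin.tail y)
  simpa [row, LinearMap.funLeft_apply] using this

theorem weil_emA_pt (g : symplecticGroup (Fin 1) F) (p : (Fin 1 → F) → ℂ) (f : (Fin k → F) → ℂ) :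
    weil ψ h2 hψ (emA k g) (pt f p) = pt f (weil ψ h2 hψ g p) :=
  col_ext fun x => by rw [col_weil_emA, col_pt, col_pt, map_smul]

theorem weil_emB_pt (hk : 1 ≤ k) (g : symplecticGroup (Fin k) F) (p : (Fin 1 → F) → ℂ) (f : (Fin k → F) → ℂ) :
    weil ψ h2 hψ (emB k g) (pt f p) = pt (weil ψ h2 hψ g f) p :=
  row_ext fun t => by rw [row_weil_emB ψ h2 hψ hk, row_pt, row_pt, map_smul]

theorem single_eq_pt (y : Fin (k + 1) → F) :
    (Pi.single y 1 : (Fin (k + 1) → F) → ℂ) = pt (Pi.single (Fin.tail y) 1) (Pi.single (fun _ => y 0) 1) := by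
  funext z
  simp only [pt, LinearMap.coe_mk, AddHom.coe_mk, Pi.single_apply]
  by_cases h : z = y
  · subst h; simp
  · rw [if_neg h]
    by_cases h0 : z 0 = y 0
    · rw [if_neg (fun e : Fin.tail z = Fin.tail y => h (by rw [← Fin.cons_self_tail z, e, h0, Fin.cons_self_tail])),
        mul_zero]
    · rw [if_neg (fun e : (fun _ : Fin 1 => z 0) = fun _ => y 0 => h0 (congrFun e 0)), zero_mul]

theorem span_pt : ∀ {W : Type*} [AddCommGroup W] [Module ℂ W] {L L' : ((Fin (k + 1) → F) → ℂ) →ₗ[ℂ] W},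
    (∀ t : F, ∀ x : Fin k → F, L (pt (Pi.single x 1) (Pi.single (fun _ => t) 1)) =
      L' (pt (Pi.single x 1) (Pi.single (fun _ => t) 1))) → L = L' := by
  intro W _ _ L L' h
  refine LinearMap.pi_ext' fun y => LinearMap.ext_ring ?_
  simp only [LinearMap.comp_apply, LinearMap.single_apply, single_eq_pt y, h]

/-- The scalar element of the plane dilates. -/
theorem weil_tor (s : Fˣ) : ∃ c : ℂ, c ≠ 0 ∧ ∀ f : (Fin 1 → F) → ℂ,
    weil ψ h2 hψ (tor s) f = c • fun x => f fun i => (s : F) * x i := by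
  obtain ⟨c, hc, e⟩ := weil_spD ψ h2 hψ (Units.map (Matrix.scalar (Fin 1)).toMonoidHom s)
  refine ⟨c, hc, fun f => ?_⟩
  rw [tor, e]
  congr 1
  funext x
  congr 1
  funext i
  simp [mulVec_diagonal]

/-- The delta function at `t ≠ 0` comes from the one at `1`. -/
theorem single_tor (t : F) (ht : t ≠ 0) : ∃ a : ℂ, (Pi.single (fun _ => t) 1 : (Fin 1 → F) → ℂ) =
    a • weil ψ h2 hψ (tor (Units.mk0 t⁻¹ (inv_ne_zero ht))) (Pi.single (fun _ => 1) 1) := by
  obtain ⟨c, hc, e⟩ := weil_tor ψ h2 hψ (Units.mk0 t⁻¹ (inv_ne_zero ht))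
  refine ⟨c⁻¹, ?_⟩
  rw [e, smul_smul, inv_mul_cancel₀ hc, one_smul]
  funext x
  simp only [Units.val_mk0, Pi.single_apply]
  refine if_congr ⟨fun h => ?_, fun h => ?_⟩ rfl rfl
  · subst h
    funext i
    exact inv_mul_cancel₀ ht
  · funext i
    have h' := congrFun h i
    calc x i = t * (t⁻¹ * x i) := by rw [mul_inv_cancel_left₀ ht]
      _ = _ := by rw [h', mul_one]

variable {ρ : Representation ℂ (symplecticGroup (Fin (l + 1 + 1)) F) V} (hR : RankOne ψ ρ)

theorem eig_emB {v : V} (hv : Eig ψ ρ v) (g : symplecticGroup (Fin (l + 1)) F) : Eig ψ ρ (ρ (emB (l + 1) g) v) := by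
  intro c
  have h := qF_conj_emB g (0 : Fin (l + 1) ⊕ Fin (l + 1) → F) c
  rw [mulVec_zero, mul_inv_eq_iff_eq_mul] at h
  rw [← Module.End.mul_apply, ← map_mul, ← h, map_mul, Module.End.mul_apply, hv, map_smul]

include hR in
/-- What kills the Weil representation of the plane kills the vectors with the given character. -/
theorem ann {ι : Type*} [Fintype ι] (α : ι → ℂ) (h : ι → symplecticGroup (Fin 1) F)
    (hW : ∀ p, ∑ i, α i • weil ψ h2 hψ (h i) p = 0) {v : V} (hv : Eig ψ ρ v) :
    ∑ i, α i • ρ (emA (l + 1) (h i)) v = 0 := by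
  set T : Module.End ℂ V := ∑ i, α i • ρ (emA (l + 1) (h i)) with hT
  set T' : Module.End ℂ V := ∑ i, α i • ρ (emB (l + 1) (emA l (h i))) with hT'
  have hTv : ∀ v, T v = ∑ i, α i • ρ (emA (l + 1) (h i)) v := fun v => by simp [hT, LinearMap.sum_apply]
  have hTv' : ∀ v, T' v = ∑ i, α i • ρ (emB (l + 1) (emA l (h i))) v := fun v => by simp [hT', LinearMap.sum_apply]
  have hWl : ∀ f : (Fin (l + 1) → F) → ℂ, ∑ i, α i • weil ψ h2 hψ (emA l (h i)) f = 0 := fun f =>
    col_ext fun x => by simp only [map_sum, map_smul, col_weil_emA, hW, map_zero]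
  have hlow : ∀ w, Eig ψ ρ w → T' w = 0 := by
    intro w hw
    have hm := mem_span_models h2 hψ hw
    clear hw
    induction hm using Submodule.span_induction with
    | mem u hu =>
      obtain ⟨Φ, hΦ, x, rfl⟩ := hu
      rw [hTv']
      simp only [model_equiv h2 hψ hR (Nat.le_add_left 1 l) hΦ]
      rw [← map_zero Φ, ← hWl (Pi.single x 1), map_sum]
      simp only [map_smul]
    | zero => exact map_zero _
    | add a b _ _ ha hb => rw [map_add, ha, hb, add_zero]
    | smul c a _ ha => rw [map_smul, ha, smul_zero]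
  have hcommB : ∀ g w, T (ρ (emB (l + 1) g) w) = ρ (emB (l + 1) g) (T w) := fun g w => by
    simp only [hTv, map_sum, map_smul, ← Module.End.mul_apply, ← map_mul, emA_emB_comm]
  rw [← hTv]
  have hm := mem_span_models h2 hψ hv
  clear hv
  induction hm using Submodule.span_induction with
  | zero => exact map_zero _
  | add a b _ _ ha hb => rw [map_add, ha, hb, add_zero]
  | smul c a _ ha => rw [map_smul, ha, smul_zero]
  | mem u hu =>
    obtain ⟨Φ, hΦ, x, rfl⟩ := hu
    have hne : ∀ y : Fin (l + 1) → F, y 0 ≠ 0 → T (Φ (Pi.single y 1)) = 0 := by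
      intro y hy
      set u := Φ (Pi.single y 1)
      have hu : ∀ c, ρ (emB (l + 1) (qF 0 c)) u = ψ (c * (y 0 * y 0) / 2) • u := by
        intro c
        rw [model_equiv h2 hψ hR (Nat.le_add_left 1 l) hΦ, ← map_smul]
        congr 1
        funext z
        rw [qF_scalar_eq, weil_spSHom, Pi.smul_apply, smul_eq_mul]
        by_cases hz : z = y
        · subst hz
          congr 2
          simp [MinDegree.sq, ev, smul_mulVec, vecMulVec_mulVec, dotProduct, Fin.sum_univ_succ, mul_comm,
            mul_left_comm]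
        · simp [hz]
      set d := emA (l + 1) (tor (Units.mk0 (y 0) hy))
      have hw : Eig ψ ρ (ρ d (ρ (swp l) u)) := by
        intro c
        rw [← Module.End.mul_apply, ← map_mul,
          qF_conj_emA (tor_b0 (Units.mk0 (y 0) hy) (y 0)⁻¹ (mul_inv_cancel₀ hy)), smul_zero, map_mul,
          Module.End.mul_apply, ← Module.End.mul_apply (ρ (qF 0 _)), ← map_mul, qF_swp, map_mul,
          Module.End.mul_apply, hu, map_smul, map_smul]
        congr 2
        field_simp
      have key : T' (ρ (swp l) u) = 0 := by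
        have h0 := hlow _ hw
        have hc : T' (ρ d (ρ (swp l) u)) = ρ d (T' (ρ (swp l) u)) := by
          simp only [hTv', map_sum, map_smul, ← Module.End.mul_apply, ← map_mul, ← mul_assoc, d, emA_emB_comm]
        rw [hc] at h0
        have := congrArg (ρ d⁻¹) h0
        rwa [map_zero, ← Module.End.mul_apply, ← map_mul, inv_mul_cancel, map_one, Module.End.one_apply] at this
      have hs : ρ (swp l) (T u) = T' (ρ (swp l) u) := by
        simp only [hTv, hTv', map_sum, map_smul, ← Module.End.mul_apply, ← map_mul, swp_emA]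
      rw [key] at hs
      have := congrArg (ρ (swp l)⁻¹) hs
      rwa [map_zero, ← Module.End.mul_apply, ← map_mul, inv_mul_cancel, map_one, Module.End.one_apply] at this
    by_cases hx : x 0 = 0
    · set L := T.comp (Φ.comp (pt (Pi.single (Fin.tail x) 1)))
      have hL : L = 0 := LinearMap.ext_on (span_weil_one ψ h2 hψ) (by
        rintro _ ⟨g, rfl⟩
        simp only [L, LinearMap.comp_apply, LinearMap.zero_apply]
        rw [← weil_emA_pt ψ h2 hψ, ← model_equiv h2 hψ hR (Nat.le_add_left 1 l) hΦ, hcommB,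
          show pt (Pi.single (Fin.tail x) 1) (Pi.single (fun _ => (1 : F)) 1) =
            (Pi.single (Fin.cons 1 (Fin.tail x)) 1 : (Fin (l + 1) → F) → ℂ) by
              rw [single_eq_pt (Fin.cons 1 (Fin.tail x)), Fin.tail_cons, Fin.cons_zero],
          hne _ (by simp), map_zero])
      have := LinearMap.congr_fun hL (Pi.single (fun _ => x 0) 1)
      simpa [L, ← single_eq_pt] using this
    · exact hne x hx

variable (ρ)

/-- The combinations of the translates of the delta function at one. -/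
noncomputable def genW : (symplecticGroup (Fin 1) F → ℂ) →ₗ[ℂ] ((Fin 1 → F) → ℂ) :=
  letI := Fintype.ofFinite (symplecticGroup (Fin 1) F)
  Fintype.linearCombination ℂ fun g => weil ψ h2 hψ g (Pi.single (fun _ => 1) 1)

/-- The combinations of the translates of a vector. -/
noncomputable def genV (v : V) : (symplecticGroup (Fin 1) F → ℂ) →ₗ[ℂ] V :=
  letI := Fintype.ofFinite (symplecticGroup (Fin 1) F)
  Fintype.linearCombination ℂ fun g => ρ (emA (l + 1) g) v

include hR in
theorem ker_genW_le {v : V} (hv : Eig ψ ρ v) : LinearMap.ker (genW ψ h2 hψ) ≤ LinearMap.ker (genV ρ v) := by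
  letI := Fintype.ofFinite (symplecticGroup (Fin 1) F)
  intro α hα
  rw [LinearMap.mem_ker] at hα ⊢
  simp only [genW, genV, Fintype.linearCombination_apply] at hα ⊢
  set z : F → symplecticGroup (Fin 1) F := fun c => spT b0 c
  have hzV : ∀ c, ρ (emA (l + 1) (z c)) v = ψ (c / 2) • v := fun c => by
    rw [spT_join_left, ← e0, ← qF_scalar, hv]
  have hzW : ∀ c (p : (Fin 1 → F) → ℂ) y, weil ψ h2 hψ (z c) p y = ψ (c * (y 0 * y 0) / 2) * p y := fun c p y => by
    have e : z c = spSHom (Multiplicative.ofAdd (MinDegree.sq (fun _ => 1) c)) := by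
      simp only [z]
      rw [← spT_inl_eq]
      rfl
    rw [e, weil_spSHom]
    congr 2
    simp [MinDegree.sq, smul_mulVec, vecMulVec_mulVec, dotProduct, mul_comm, mul_left_comm]
  have key := ann ψ h2 hψ hR (ι := symplecticGroup (Fin 1) F × F) (fun i => α i.1 * ψ (-(i.2 / 2)))
    (fun i => i.1 * z i.2) (fun p => ?_) hv
  · rw [Fintype.sum_prod_type] at key
    simp only [map_mul, Module.End.mul_apply, hzV, map_smul, smul_smul, mul_assoc, ← AddChar.map_add_eq_mul,
      neg_add_cancel, AddChar.map_zero_eq_one, mul_one, Finset.sum_const, Finset.card_univ, ← Finset.smul_sum] at key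
    rw [← Nat.cast_smul_eq_nsmul ℂ] at key
    exact (smul_eq_zero.1 key).resolve_left (Nat.cast_ne_zero.2 Fintype.card_ne_zero)
  · set q : (Fin 1 → F) → ℂ := fun y => (if y 0 * y 0 = 1 then (Fintype.card F : ℂ) else 0) * p y
    have hq : ∑ c, ψ (-(c / 2)) • weil ψ h2 hψ (z c) p = q := by
      funext y
      simp only [Finset.sum_apply, Pi.smul_apply, smul_eq_mul, hzW, ← mul_assoc, ← AddChar.map_add_eq_mul]
      rw [← Finset.sum_mul]
      congr 1
      have h := AddChar.sum_mulShift (R := F) ((y 0 * y 0 - 1) / 2) (AddChar.IsPrimitive.of_ne_one hψ)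
      simp only [div_eq_zero_iff, h2, or_false, sub_eq_zero, Nat.cast_ite, Nat.cast_zero] at h
      rw [← h]
      refine Finset.sum_congr rfl fun c _ => congrArg ψ ?_
      ring
    rw [Fintype.sum_prod_type]
    have hg : ∀ g, ∑ c, (α g * ψ (-(c / 2))) • weil ψ h2 hψ (g * z c) p = α g • weil ψ h2 hψ g q := fun g => by
      rw [← hq, map_sum, Finset.smul_sum]
      refine Finset.sum_congr rfl fun c _ => ?_
      rw [map_smul, smul_smul, map_mul, Module.End.mul_apply]
    simp only [hg]
    have h1 : ∀ y : Fin 1 → F, (∑ g, α g • weil ψ h2 hψ g (Pi.single y 1)) = 0 ∨ y 0 * y 0 ≠ 1 := by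
      intro y
      by_cases hy : y 0 * y 0 = 1
      · refine Or.inl ?_
        rcases mul_self_eq_one_iff.1 hy with h | h
        · rwa [show y = fun _ => (1 : F) from funext fun i => by rw [Subsingleton.elim i 0, h]]
        · rw [show y = fun _ => (-1 : F) from funext fun i => by rw [Subsingleton.elim i 0, h]]
          obtain ⟨a, ha⟩ := single_tor ψ h2 hψ (-1 : F) (by simp)
          set s := tor (Units.mk0 (-1 : F)⁻¹ (inv_ne_zero (by simp : (-1 : F) ≠ 0)))
          have hc : ∀ g, g * s = s * g := fun g => by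
            have : s.1 = -1 := by
              change fromBlocks _ 0 0 _ = _
              rw [← fromBlocks_one, fromBlocks_neg]
              congr 1 <;> ext i j <;> simp [Matrix.diagonal, Fin.fin_one_eq_zero]
            refine Subtype.ext ?_
            simp [this]
          have e : ∀ g, α g • weil ψ h2 hψ g (a • weil ψ h2 hψ s (Pi.single (fun _ => 1) 1)) =
              a • weil ψ h2 hψ s (α g • weil ψ h2 hψ g (Pi.single (fun _ => 1) 1)) := fun g => by
            rw [map_smul, map_smul, smul_comm, ← Module.End.mul_apply, ← map_mul, hc, map_mul, Module.End.mul_apply]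
          simp only [ha, e]
          rw [← Finset.smul_sum, ← map_sum, hα, map_zero, smul_zero]
      · exact Or.inr hy
    conv_lhs => enter [2, g]; rw [← Finset.univ_sum_single q, map_sum, Finset.smul_sum]
    rw [Finset.sum_comm]
    refine Finset.sum_eq_zero fun y _ => ?_
    have e : (Pi.single y (q y) : (Fin 1 → F) → ℂ) = q y • Pi.single y 1 := by
      rw [← Pi.single_smul', smul_eq_mul, mul_one]
    simp only [e, map_smul, smul_comm (α _) (q y), ← Finset.smul_sum]
    rcases h1 y with h | h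
    · rw [h, smul_zero]
    · rw [show q y = 0 from by simp [q, h], zero_smul]

theorem genW_surjective : Function.Surjective (genW (F := F) ψ h2 hψ) := by
  letI := Fintype.ofFinite (symplecticGroup (Fin 1) F)
  rw [← LinearMap.range_eq_top, genW, Fintype.range_linearCombination, span_weil_one]

include hR in
/-- The map from the Weil representation of the plane sending the delta at one to the vector. -/
theorem exists_plane_hom {v : V} (hv : Eig ψ ρ v) : ∃ S : ((Fin 1 → F) → ℂ) →ₗ[ℂ] V,
    ∀ g, S (weil ψ h2 hψ g (Pi.single (fun _ => 1) 1)) = ρ (emA (l + 1) g) v := by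
  classical
  letI := Fintype.ofFinite (symplecticGroup (Fin 1) F)
  set e := (genW ψ h2 hψ).quotKerEquivOfSurjective (genW_surjective ψ h2 hψ)
  refine ⟨((LinearMap.ker (genW ψ h2 hψ)).liftQ (genV ρ v) (ker_genW_le ψ h2 hψ ρ hR hv)).comp
    e.symm.toLinearMap, fun g => ?_⟩
  have hg : genW ψ h2 hψ (Pi.single g 1) = weil ψ h2 hψ g (Pi.single (fun _ => 1) 1) := by
    rw [genW, Fintype.linearCombination_apply_single, one_smul]
  have he : e.symm (genW ψ h2 hψ (Pi.single g 1)) = Submodule.Quotient.mk (Pi.single g 1) :=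
    e.symm_apply_eq.2 rfl
  rw [← hg, LinearMap.comp_apply, LinearEquiv.coe_coe, he, Submodule.liftQ_apply, genV,
    Fintype.linearCombination_apply_single, one_smul]

include hR in
/-- A non-zero equivariant map from the Weil representation. -/
theorem exists_hom {v₀ : V} (hv₀ : Eig ψ ρ v₀) (hne : v₀ ≠ 0) :
    ∃ S : ((Fin (l + 1 + 1) → F) → ℂ) →ₗ[ℂ] V, S ≠ 0 ∧ ∀ g f, S (weil ψ h2 hψ g f) = ρ g (S f) := by
  classical
  obtain ⟨Φ, hΦ, hΦ0⟩ : ∃ Φ, IsModel ψ ρ Φ ∧ Φ (Pi.single 0 1) ≠ 0 := by
    by_contra hall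
    push Not at hall
    refine hne ?_
    have hsub : {u | ∃ Φ, IsModel ψ ρ Φ ∧ ∃ x : Fin (l + 1) → F, u = Φ (Pi.single x 1)} ⊆ {0} := by
      rintro u ⟨Φ, hΦ, x, rfl⟩
      rw [Set.mem_singleton_iff, hΦ.single, hall Φ hΦ, map_zero]
    have := Submodule.span_mono (R := ℂ) hsub (mem_span_models h2 hψ hv₀)
    simpa [Submodule.span_zero_singleton] using this
  have heig : ∀ f, Eig ψ ρ (Φ f) := fun f c => hΦ.zero_eigen c f
  choose S1 hS1 using fun f => exists_plane_hom ψ h2 hψ ρ hR (heig f)
  have hlin : ∀ (f : (Fin (l + 1) → F) → ℂ) p, S1 f p = ∑ x, f x • S1 (Pi.single x 1) p := by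
    intro f
    have : S1 f = ∑ x, f x • S1 (Pi.single x 1) := LinearMap.ext_on (span_weil_one ψ h2 hψ) (by
      rintro _ ⟨g, rfl⟩
      simp only [hS1, LinearMap.sum_apply, LinearMap.smul_apply, ← map_smul, ← map_sum]
      congr 2
      conv_lhs => rw [← Finset.univ_sum_single f]
      refine Finset.sum_congr rfl fun x _ => ?_
      rw [← Pi.single_smul', smul_eq_mul, mul_one])
    intro p
    simp [this, LinearMap.sum_apply]
  set S : ((Fin (l + 1 + 1) → F) → ℂ) →ₗ[ℂ] V := ∑ x, (S1 (Pi.single x 1)).comp (col x)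
  have hSp : ∀ p f, S (pt f p) = S1 f p := fun p f => by
    simp only [S, LinearMap.sum_apply, LinearMap.comp_apply, col_pt, map_smul, hlin f p]
  have hSemA : ∀ g p f, S1 f (weil ψ h2 hψ g p) = ρ (emA (l + 1) g) (S1 f p) := fun g p f => by
    have : (S1 f).comp (weil ψ h2 hψ g) = (ρ (emA (l + 1) g)).comp (S1 f) :=
      LinearMap.ext_on (span_weil_one ψ h2 hψ) (by
        rintro _ ⟨h, rfl⟩
        simp only [LinearMap.comp_apply]
        rw [← Module.End.mul_apply, ← map_mul, hS1, hS1, map_mul, map_mul, Module.End.mul_apply])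
    exact LinearMap.congr_fun this p
  refine ⟨S, fun e => hΦ0 ?_, ?_⟩
  · have h := hS1 (Pi.single 0 1) 1
    rwa [map_one, map_one, map_one, Module.End.one_apply, Module.End.one_apply, ← hSp, e, LinearMap.zero_apply,
      eq_comm] at h
  let N : Subgroup (symplecticGroup (Fin (l + 1 + 1)) F) :=
    { carrier := {g | ∀ f, S (weil ψ h2 hψ g f) = ρ g (S f)}
      one_mem' := fun f => by simp
      mul_mem' := fun {a b} ha hb f => by
        rw [map_mul, map_mul, Module.End.mul_apply, Module.End.mul_apply, ha, hb]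
      inv_mem' := fun {a} ha f => by
        have h := congrArg (ρ a⁻¹) (ha (weil ψ h2 hψ a⁻¹ f))
        rw [← Module.End.mul_apply (weil ψ h2 hψ a), ← map_mul, mul_inv_cancel, map_one, Module.End.one_apply,
          ← Module.End.mul_apply (ρ a⁻¹) (ρ a), ← map_mul, inv_mul_cancel, map_one, Module.End.one_apply] at h
        exact h.symm }
  have hext : ∀ g, (∀ t : F, ∀ x : Fin (l + 1) → F,
      S (weil ψ h2 hψ g (pt (Pi.single x 1) (Pi.single (fun _ => t) 1))) =
        ρ g (S (pt (Pi.single x 1) (Pi.single (fun _ => t) 1)))) → g ∈ N := fun g hg f =>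
    LinearMap.congr_fun (span_pt (L := S.comp (weil ψ h2 hψ g)) (L' := (ρ g).comp S) hg) f
  suffices htop : N = ⊤ by
    intro g f
    exact (htop ▸ Subgroup.mem_top g : g ∈ N) f
  refine closure_eq_top N (fun g => hext _ fun t x => ?_) (fun w c => hext _ fun t x => ?_)
  · rw [weil_emA_pt, hSp, hSp, hSemA]
  · set p : (Fin 1 → F) → ℂ := Pi.single (fun _ => t) 1
    have e : weil ψ h2 hψ (qF w c) (pt (Pi.single x 1) p) =
        pt (ψ (c * (t * t) / 2) • (hop ψ (t • w) *ᵥ Pi.single x 1)) p := row_ext fun t' => by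
      rw [row_weil_qF ψ h2 hψ (Nat.le_add_left 1 l), row_pt, row_pt, mulVec_smul, smul_comm]
      by_cases ht : t' = t
      · subst ht; rfl
      · have : p (fun _ => t') = 0 := by
          simp only [p, Pi.single_apply]
          exact if_neg fun h => ht (congrFun h 0)
        rw [this, zero_smul, zero_smul]
    rw [e, hSp, hSp]
    by_cases ht : t = 0
    · subst ht
      rw [zero_mul, mul_zero, zero_div, AddChar.map_zero_eq_one, one_smul, zero_smul,
        show hop ψ (0 : Fin (l + 1) ⊕ Fin (l + 1) → F) = 1 by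
          rw [hop, mulVec_zero, wop_zero], one_mulVec]
      refine (heis_fix h2 hψ hR (fun c' => ?_) w c).symm
      rw [qF_scalar, e0, ← spT_join_left, ← hSemA]
      congr 1
      funext y
      have eb : (spT b0 c' : symplecticGroup (Fin 1) F) = spSHom (Multiplicative.ofAdd (MinDegree.sq (fun _ => 1) c')) := by
        rw [← spT_inl_eq]; rfl
      rw [eb, weil_spSHom]
      by_cases hy : y = fun _ => (0 : F)
      · subst hy
        simp [dotProduct]
      · simp [p, hy]
    · obtain ⟨a, ha⟩ := single_tor ψ h2 hψ t ht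
      simp only [p]
      rw [ha, map_smul, map_smul, map_smul, hS1, hS1]
      congr 1
      rw [← Module.End.mul_apply, ← map_mul, qF_conj_emA (tor_b0 _ t (by simp [ht])), map_mul, Module.End.mul_apply,
        hΦ, map_smul Φ]
      congr 4
      ring

end Hom

end CfsgLib.Weil.Gap
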