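import Mathlib
import Cfsg.Agent.Lib.Weil.Gap.Count
import Cfsg.Agent.Lib.Weil.Gap.Hom
import Cfsg.Agent.Lib.Weil.Halves
import Cfsg.Agent.Lib.Char.Equiv

/-!
The irreducible representations of small degree of the symplectic group in odd characteristic.
-/

namespace CfsgLib.Weil.Gap

open Matrix CfsgLib.Classical CfsgLib.MinDegree CfsgLib.Weil

variable {F : Type*} [Field F] [Fintype F] [DecidableEq F] {k l : ℕ}

omit [DecidableEq F] in
theorem isSquare_mul_of_not {a b : F} (ha : ¬ IsSquare a) (hb : ¬ IsSquare b) : IsSquare (a * b) := by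
  classical
  have ha0 : a ≠ 0 := fun e => ha (e ▸ IsSquare.zero)
  have hb0 : b ≠ 0 := fun e => hb (e ▸ IsSquare.zero)
  rw [← quadraticChar_one_iff_isSquare (mul_ne_zero ha0 hb0), map_mul, quadraticChar_neg_one_iff_not_isSquare.2 ha,
    quadraticChar_neg_one_iff_not_isSquare.2 hb]
  rfl

theorem weil_qF_scalar (ψ : AddChar F ℂ) (h2 : (2 : F) ≠ 0) (hψ : ψ ≠ 1) (c : F) (f : (Fin (k + 1) → F) → ℂ)
    (y : Fin (k + 1) → F) :
    weil ψ h2 hψ (qF 0 c) f y = ψ (c * (y 0 * y 0) / 2) * f y := by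
  rw [qF_scalar_eq, weil_spSHom]
  congr 2
  simp [MinDegree.sq, ev, smul_mulVec, vecMulVec_mulVec, dotProduct, Fin.sum_univ_succ, mul_comm, mul_left_comm]

variable (ψ : AddChar F ℂ) (h2 : (2 : F) ≠ 0) (hψ : ψ ≠ 1)

include h2 hψ in
/-- Each half contains a vector with the character. -/
theorem exists_eig_half {ε : ℂ} (hε : ε * ε = 1) :
    ∃ v : halfSub (k + 1) F ε, v ≠ 0 ∧ Eig ψ (half ψ h2 hψ ε) v := by
  set x : Fin (k + 1) → F := Fin.cons 1 0
  have hx : x ≠ 0 := fun e => one_ne_zero (congrFun e 0)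
  refine ⟨⟨sdelta ε x, sdelta_mem hε x⟩, fun e => one_ne_zero (α := ℂ) ?_, fun c => Subtype.ext (funext fun y => ?_)⟩
  · have := congrFun (congrArg Subtype.val e) x
    simpa [sdelta_self h2 hx] using this
  · rw [half_val, weil_qF_scalar, Submodule.coe_smul, Pi.smul_apply, smul_eq_mul]
    change _ * sdelta ε x y = _ * sdelta ε x y
    by_cases h : y = x ∨ y = -x
    · rcases h with rfl | rfl <;> simp [x, div_eq_mul_inv]
    · push Not at h
      simp [sdelta, h.1, h.2]

include h2 hψ in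
/-- Characters of another square class do not occur. -/
theorem eig_half_eq_zero {ε : ℂ} {r : F} (hr : ¬ IsSquare r) {v : halfSub (k + 1) F ε}
    (hv : Eig (ψ.mulShift r) (half ψ h2 hψ ε) v) : v = 0 := by
  refine Subtype.ext (funext fun y => ?_)
  by_contra hy
  refine hr ⟨y 0, ?_⟩
  refine (cancel_shift hψ fun c => ?_).symm
  have h := congrFun (congrArg Subtype.val (hv (2 * c))) y
  rw [half_val, weil_qF_scalar, Submodule.coe_smul, Pi.smul_apply, smul_eq_mul, AddChar.mulShift_apply] at h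
  have h' := mul_right_cancel₀ hy h
  rw [show 2 * c * (y 0 * y 0) / 2 = c * (y 0 * y 0) by field_simp,
    show r * (2 * c / 2) = c * r by field_simp] at h'
  exact h'

/-- An irreducible representation with only rank one forms and a vector with the character is a half. -/
theorem classify {V : Type*} [AddCommGroup V] [Module ℂ V] [FiniteDimensional ℂ V]
    (ρ : Representation ℂ (symplecticGroup (Fin (l + 1 + 1)) F) V) [ρ.IsIrreducible] (hR : RankOne ψ ρ) {v : V}
    (hv : Eig ψ ρ v) (hne : v ≠ 0) :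
    ρ.character = (half ψ h2 hψ 1).character ∨ ρ.character = (half ψ h2 hψ (-1)).character := by
  obtain ⟨S, hS0, hS⟩ := exists_hom ψ h2 hψ ρ hR hv hne
  have key : ∀ ε : ℂ, ε * ε = 1 → S.comp (halfSub (l + 1 + 1) F ε).subtype ≠ 0 →
      ρ.character = (half ψ h2 hψ ε).character := by
    intro ε hε hne
    set T := S.comp (halfSub (l + 1 + 1) F ε).subtype
    have hT : ∀ g f, T (half ψ h2 hψ ε g f) = ρ g (T f) := fun g f => hS g f.1
    haveI := half_irreducible ψ h2 hψ (n := l + 1 + 1) (by omega) hε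
    let K : Subrepresentation (half ψ (n := l + 1 + 1) h2 hψ ε) :=
      ⟨LinearMap.ker T, fun g f hf => by
        simp only [LinearMap.mem_ker] at hf ⊢
        rw [hT, hf, map_zero]⟩
    let R : Subrepresentation ρ := ⟨LinearMap.range T, fun g w hw => by
      obtain ⟨f, rfl⟩ := LinearMap.mem_range.1 hw
      exact LinearMap.mem_range.2 ⟨half ψ h2 hψ ε g f, hT g f⟩⟩
    have hK : LinearMap.ker T = ⊥ := by
      rcases eq_bot_or_eq_top K with e | e
      · exact congrArg Subrepresentation.toSubmodule e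
      · exact absurd (LinearMap.ker_eq_top.1 (congrArg Subrepresentation.toSubmodule e)) hne
    have hRg : LinearMap.range T = ⊤ := by
      rcases eq_bot_or_eq_top R with e | e
      · exact absurd (LinearMap.range_eq_bot.1 (congrArg Subrepresentation.toSubmodule e)) hne
      · exact congrArg Subrepresentation.toSubmodule e
    exact (Representation.char_iso (Representation.Equiv.mk
      (LinearEquiv.ofBijective T ⟨LinearMap.ker_eq_bot.1 hK, LinearMap.range_eq_top.1 hRg⟩)
      fun g => LinearMap.ext fun f => hT g f)).symm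
  by_cases h1 : S.comp (halfSub (l + 1 + 1) F 1).subtype = 0
  · refine Or.inr (key (-1) (by ring) fun h3 => hS0 ?_)
    refine LinearMap.ext fun f => ?_
    obtain ⟨a, ha, b, hb, rfl⟩ := Submodule.mem_sup.1
      ((isCompl_halves (F := F) (l + 1 + 1)).sup_eq_top ▸ Submodule.mem_top :
        f ∈ halfSub (l + 1 + 1) F 1 ⊔ halfSub (l + 1 + 1) F (-1))
    have e1 : S a = 0 := LinearMap.congr_fun h1 ⟨a, ha⟩
    have e2 : S b = 0 := LinearMap.congr_fun h3 ⟨b, hb⟩
    rw [map_add, e1, e2, add_zero]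
    rfl
  · exact Or.inl (key 1 (by ring) h1)

include h2 hψ in
/-- A small non-trivial irreducible representation is one of the four halves. -/
theorem small_classify {r₀ : F} (hr₀ : ¬ IsSquare r₀) (hψ' : ψ.mulShift r₀ ≠ 1) {V : Type*} [AddCommGroup V]
    [Module ℂ V] [FiniteDimensional ℂ V] (ρ : Representation ℂ (symplecticGroup (Fin (l + 1 + 1)) F) V)
    [ρ.IsIrreducible] (hne : ρ ≠ 1)
    (hd : 2 * (Fintype.card F + 1) * Module.finrank ℂ V <
      (Fintype.card F ^ (l + 1 + 1) - 1) * (Fintype.card F ^ (l + 1 + 1) - Fintype.card F)) :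
    ρ.character = (half ψ h2 hψ 1).character ∨ ρ.character = (half ψ h2 hψ (-1)).character ∨
      ρ.character = (half (ψ.mulShift r₀) h2 hψ' 1).character ∨
      ρ.character = (half (ψ.mulShift r₀) h2 hψ' (-1)).character := by
  have hR : ∀ φ : AddChar F ℂ, φ ≠ 1 → RankOne φ ρ := by
    intro φ hφ χ hχ Q B hf v w
    by_contra h
    exact absurd (dim_bound h2 hφ (by omega) ρ hχ hf h) (not_le.2 hd)
  -- the root group acts non-trivially
  let π : Multiplicative F →* Module.End ℂ V :=
    { toFun := fun c => ρ (qF 0 c.toAdd)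
      map_one' := by rw [toAdd_one, qF_zero, map_one]
      map_mul' := fun c d => by
        rw [← map_mul, qF_mul, sympForm_zero_left, add_zero, add_zero, toAdd_mul] }
  obtain ⟨b, hb⟩ : ∃ b : F, π (Multiplicative.ofAdd b) ≠ 1 := by
    by_contra hall
    push Not at hall
    refine hne (MonoidHom.ext fun g => ?_)
    have htop := spT_eq_one_of_spS (Nat.le_add_left 1 (l + 1)) (N := ρ.ker) fun c => by
      rw [MonoidHom.mem_ker, spS_single_eq_spT]
      have e : (Pi.single (Sum.inl (⟨0, Nat.le_add_left 1 (l + 1)⟩ : Fin (l + 1 + 1))) 1 :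
          Fin (l + 1 + 1) ⊕ Fin (l + 1 + 1) → F) = e0 (l + 1) := by
        rw [e0_eq, show (⟨0, Nat.le_add_left 1 (l + 1)⟩ : Fin (l + 1 + 1)) = 0 from rfl]
        funext z
        rcases z with i | i <;> cases i using Fin.cases <;> simp [ev]
      rw [e, ← qF_scalar]
      exact hall c
    exact (show g ∈ ρ.ker from htop ▸ Subgroup.mem_top g)
  obtain ⟨φ, hφb, hW⟩ := exists_weight π (by exact_mod_cast Fintype.card_ne_zero) hb
  obtain ⟨v, hv, hv0⟩ := Submodule.exists_mem_ne_zero_of_ne_bot hW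
  obtain ⟨r, hr, -⟩ := exists_shift (K := ℂ) (by exact_mod_cast (Fintype.card_ne_zero : Fintype.card F ≠ 0)) hψ φ
  have hr0 : r ≠ 0 := fun e => hφb (by rw [hr, e, mul_zero, AddChar.map_zero_eq_one])
  -- move to one of the two classes
  have hmove : ∀ s : F, s ≠ 0 → IsSquare (s / (2 * r)) → ∃ w : V, w ≠ 0 ∧ ∀ c, ρ (qF 0 c) w = ψ (s * (c / 2)) • w := by
    intro s hs hsq
    obtain ⟨t, ht⟩ := hsq
    have ht0 : t ≠ 0 := fun e => div_ne_zero hs (mul_ne_zero h2 hr0) (by rw [ht, e, mul_zero])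
    set d := emA (l + 1) (tor (Units.mk0 t⁻¹ (inv_ne_zero ht0)))
    refine ⟨ρ d v, fun e => hv0 ?_, fun c => ?_⟩
    · have := congrArg (ρ d⁻¹) e
      rwa [map_zero, ← Module.End.mul_apply, ← map_mul, inv_mul_cancel, map_one, Module.End.one_apply] at this
    · rw [← Module.End.mul_apply, ← map_mul, qF_conj_emA (tor_b0 _ t (by simp [ht0])), smul_zero, map_mul,
        Module.End.mul_apply, show ρ (qF 0 (t * t * c)) v = φ (t * t * c) • v from hv (t * t * c), map_smul, hr, ← ht]
      congr 2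
      field_simp
  have hr₀0 : r₀ ≠ 0 := fun e => hr₀ (e ▸ IsSquare.zero)
  by_cases hsq : IsSquare (1 / (2 * r))
  · obtain ⟨w, hw0, hw⟩ := hmove 1 one_ne_zero hsq
    rcases classify ψ h2 hψ ρ (hR ψ hψ) (v := w) (fun c => by rw [hw c, one_mul]) hw0 with h | h
    · exact Or.inl h
    · exact Or.inr (Or.inl h)
  · obtain ⟨w, hw0, hw⟩ := hmove r₀ hr₀0 (by
      have := isSquare_mul_of_not hr₀ hsq
      rwa [mul_one_div] at this)
    rcases classify (ψ.mulShift r₀) h2 hψ' ρ (hR _ hψ') (v := w)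
      (fun c => by rw [hw c, AddChar.mulShift_apply]) hw0 with h | h
    · exact Or.inr (Or.inr (Or.inl h))
    · exact Or.inr (Or.inr (Or.inr h))

include h2 hψ in
/-- The two classes give different characters. -/
theorem half_char_ne {r₀ : F} (hr₀ : ¬ IsSquare r₀) (hψ' : ψ.mulShift r₀ ≠ 1) {ε : ℂ} (hε : ε * ε = 1) :
    (half ψ (n := k + 1) h2 hψ ε).character ≠ (half (ψ.mulShift r₀) (n := k + 1) h2 hψ' ε).character := by
  intro h
  obtain ⟨Φ⟩ := CfsgLib.Char.nonempty_equiv_of_character_eq _ _ h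
  obtain ⟨v, hv0, hv⟩ := exists_eig_half (k := k) (ψ.mulShift r₀) h2 hψ' hε
  set e := Φ.toLinearEquiv
  have hcomm : ∀ g w, e (half ψ h2 hψ ε g w) = half (ψ.mulShift r₀) h2 hψ' ε g (e w) :=
    fun g w => LinearMap.congr_fun (Φ.toIntertwiningMap.isIntertwining' g) w
  have hEig : Eig (ψ.mulShift r₀) (half ψ h2 hψ ε) (e.symm v) := fun c => e.injective (by
    rw [hcomm, LinearEquiv.apply_symm_apply, hv, map_smul, LinearEquiv.apply_symm_apply])
  exact hv0 (e.symm.map_eq_zero_iff.1 (eig_half_eq_zero ψ h2 hψ hr₀ hEig))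

end CfsgLib.Weil.Gap
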